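import Mathlib
import Cfsg.Agent.Gr.R4.Lin
import Cfsg.Agent.Gr.Am.Code
import Cfsg.Agent.Gr.Am.Z
import Cfsg.Agent.Gr.Baby2

/-! Definitions for the study of small representations of the Baby Monster. -/

set_option autoImplicit false

namespace Cfsg.Agent.Gr.R4

open Matrix Subgroup Cfsg.Agent.Spor Cfsg.Agent.Spor.Leech Cfsg.Agent.Gr.Rk Cfsg.Agent.Gr.Am

/-- Code words avoiding the two points of `v1`. -/
def En (d : Cd) : Prop := wd d none = 0 ∧ wd d (some 0) = 0

/-- The representative avoiding the first point. -/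
def dE (c : LL) : Cd := c.1 + wd c.1 none • om

/-- Minus Conway's element. -/
noncomputable def mx : Co0 := negOne * xi

/-- The standard common neighbour of `v1` and `v2`. -/
def x0 : Λ := v44 none (some 1) 1 1

/-- `g` centralises `t0` and `zz` and lies over `h`, which fixes `v1`. -/
structure Ov (g : K) (h : Co0) : Prop where
  mem : g ∈ HH
  z : zz * g = g * zz
  fix : h • v1 = v1
  cj : ∀ e c, ∃ f, g * tq e c * g⁻¹ = tq f (csm h c)

/-- An element of `Q` swapping `zs` and `zz * zs`. -/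
noncomputable def t1 : K := tq 0 (cls (lam (some 0)))

variable {F : Type*} [Field F] {U : Type*} [AddCommGroup U] [Module F U]

/-- A nontrivial representation of `HH / ⟨t0⟩`. -/
structure Rp (r : K → Module.End F U) : Prop where
  two : (2 : F) ≠ 0
  mul : ∀ g ∈ HH, ∀ h ∈ HH, r (g * h) = r g * r h
  one : r 1 = 1
  t : r t0 = 1
  ne : r zz ≠ 1

/-- The sum over the four involutions above the pair of points `k, 0`. -/
noncomputable def AA (v : K → U) (k : Pt) : U :=
  v (tq 0 (clB k (some 0))) + v (tq 1 (clB k (some 0))) + (v (tq 0 (clC k (some 0))) + v (tq 1 (clC k (some 0))))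

/-- A system of axial vectors. -/
structure AS (r : K → Module.End F U) (v : K → U) : Prop where
  eqv : ∀ g ∈ HH, ∀ t ∈ O1 t0, r g (v t) = v (g * t * g⁻¹)
  neg : ∀ t ∈ O1 t0, v (t0 * t) = -v t
  ne : v s0 ≠ 0
  rel : AA v (some 1) = AA v (some 2)
  inv : ∀ g d, En d → Ov g (sgC d) → r g (AA v (some 1)) = AA v (some 1)
  dec : ∃ κ : F, (∀ f : U →ₗ[F] F, (∀ g d, En d → Ov g (sgC d) → ∀ u, f (r g u) = f u) →
      f (v t1) = κ * f (AA v (some 1))) ∧
    ∀ f : U →ₗ[F] F, (∀ u, f (r zz u) = f u) → (∀ d, En d → ∀ u, f (r (tq 0 (d, 0)) u) = f u) →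
      f (r tau (v t1)) = κ * f (AA v (some 1))

end Cfsg.Agent.Gr.R4
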