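import Mathlib
import Cfsg.Agent.Gr.R4.Def
import Cfsg.Agent.Gr.YSurj
import Cfsg.Agent.S1577

/-! Facts on the Leech lattice near the vectors `v1, v2`. -/

set_option autoImplicit false

namespace Cfsg.Agent.Gr.R4

open Matrix Finset Cfsg.Agent.Spor Cfsg.Agent.Spor.Leech Cfsg.Agent.Gr.Rk Cfsg.Agent.Gr.Am TriV

theorem En.add {a b : Cd} (ha : En a) (hb : En b) : En (a + b) := by
  simp only [En, map_add, Pi.add_apply, ha.1, ha.2, hb.1, hb.2, add_zero, and_self]

theorem en_zero : En 0 := by simp [En]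

theorem En.eq_zero {d : Cd} (h : En d) (k : D0 d) : d = 0 :=
  k.resolve_right fun e => by have := h.1; rw [e, wd_om] at this; exact one_ne_zero this

theorem pol_c0 (c : LL) : pol c c0 = wd c.1 none + wd c.1 (some 0) := pol_clB c _ _

theorem wd_dE (c : LL) (i : Pt) : wd (dE c) i = wd c.1 i + wd c.1 none := by
  rw [dE, map_add, map_smul, wd_om]; simp

theorem en_dE {c : LL} (h : pol c c0 = 0) : En (dE c) :=
  ⟨by rw [wd_dE, z2_add_self], by rw [wd_dE, add_comm, ← pol_c0, h]⟩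

theorem En.pol {d : Cd} (h : En d) : pol (d, 0) c0 = 0 := by rw [pol_c0, h.1, h.2, add_zero]

theorem En.dE {d : Cd} (h : En d) : dE (d, 0) = d := by rw [R4.dE, h.1, zero_smul, add_zero]

theorem ev0_zero (d : Cd) : Ev0 (d, 0) := zero_dotProduct _

theorem ex_code {s t : Finset Pt} (h : t ⊆ s) (hs : s.card < 8) : ∃ d, ∀ i ∈ s, wd d i = if i ∈ t then 1 else 0 := by
  obtain ⟨c, hc, e⟩ := exists_code_inter_of_card_lt h hs
  obtain ⟨d, rfl⟩ := exists_wd_of_isCode hc
  refine ⟨d, fun i hi => ?_⟩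
  subst e
  rcases z2c (wd d i) with k | k <;> simp [k, hi]

/-- A code word avoiding the two points which separates `k` from `l`. -/
theorem ex_sep {k l : Pt} (h1 : k ≠ none) (h2 : k ≠ some 0) (h : k ≠ l) : ∃ d, En d ∧ wd d k = 1 ∧ wd d l = 0 := by
  obtain ⟨d, e⟩ := ex_code (s := {none, some 0, k, l}) (t := {k}) (by simp) (card_le_four.trans_lt (by norm_num))
  exact ⟨d, ⟨by simp [e, h1.symm], by simp [e, h2.symm]⟩, by simp [e], by simp [e, h.symm]⟩

theorem sgC_v44 (d : Cd) (i j : Pt) (s t : ℤˣ) :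
    sgC d • v44 i j s t = v44 i j (if wd d i = 1 then -s else s) (if wd d j = 1 then -t else t) := by
  simp only [sgC, sign_v44, mem_supp]

theorem En.v1 {d : Cd} (h : En d) : sgC d • v1 = v1 := by rw [Gr.v1, sgC_v44, h.1, h.2]; rfl

theorem eq_of_ip {v w : Λ} (h : nm v = nm w) (k : ip v w = nm w) : v = w :=
  sub_eq_zero.1 (nm_eq_zero.1 (by rw [nm_sub, h, k]; ring))

theorem mx_apply (v : Λ) (i : Pt) :
    8 * ((mx • v : Λ) : Vec) i = -∑ j, xiMat (Golay.ptIdx i) (Golay.ptIdx j) * (v : Vec) j := by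
  rw [mx, mul_smul, negOne_smul, AddSubgroup.coe_neg, Pi.neg_apply, mul_neg, eight_mul_smul_apply]
  simp only [xi_e8]

theorem mx_T (v : Λ) {i : Pt} (hi : i ∈ ({none, some 0, some 1, some 2} : Finset Pt)) : 2 * ((mx • v : Λ) : Vec) i =
    2 * (v : Vec) i - ((v : Vec) none + (v : Vec) (some 0) + (v : Vec) (some 1) + (v : Vec) (some 2)) := by
  have h := mx_apply v i
  have k : ∀ i ∈ ({none, some 0, some 1, some 2} : Finset Pt), ∀ j : Pt, xiMat (Golay.ptIdx i) (Golay.ptIdx j) =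
      (if j = none then 4 else 0) + (if j = some 0 then 4 else 0) + (if j = some 1 then 4 else 0) +
        (if j = some 2 then 4 else 0) - if j = i then 8 else 0 := by decide +kernel
  simp only [k i hi, sub_mul, add_mul, ite_mul, zero_mul, sum_sub_distrib, sum_add_distrib, sum_ite_eq', mem_univ,
    if_true] at h
  omega

theorem mx_v44 {i j : Pt} (hi : i ∈ ({none, some 0, some 1, some 2} : Finset Pt))
    (hj : j ∈ ({none, some 0, some 1, some 2} : Finset Pt)) (h : i ≠ j) : mx • v44 i j 1 (-1) = v44 i j 1 (-1) := by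
  refine eq_of_ip (nm_smul _ _) ?_
  have h1 := mx_T (v44 i j 1 (-1)) hi
  have h2 := mx_T (v44 i j 1 (-1)) hj
  have k : ∀ i ∈ ({none, some 0, some 1, some 2} : Finset Pt), ∀ j ∈ ({none, some 0, some 1, some 2} : Finset Pt),
      (v44 i j 1 (-1) : Vec) none + (v44 i j 1 (-1) : Vec) (some 0) + (v44 i j 1 (-1) : Vec) (some 1) +
        (v44 i j 1 (-1) : Vec) (some 2) = 0 := by simp only [v44_apply]; decide
  rw [k i hi j hj] at h1 h2
  simp only [v44_apply, if_true, h, h.symm, if_false, Units.val_neg, Units.val_one] at h1 h2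
  rw [ip_v44, nm_v44 h]
  simp only [Units.val_neg, Units.val_one]
  omega

theorem mx_v1 : mx • v1 = v1 := mx_v44 (by simp) (by simp) p01

theorem mx_v2 : mx • v2 = v2 := mx_v44 (by simp) (by simp) p12.symm

theorem mx_mul : mx * mx = 1 := co0_ext_e8 fun j => Subtype.ext (funext fun i => by
  have h := mx_apply (mx • e8 j) i
  have k : ∀ l, ((mx • e8 j : Λ) : Vec) l = -xiMat (Golay.ptIdx l) (Golay.ptIdx j) := fun l => by
    rw [mx, mul_smul, negOne_smul, AddSubgroup.coe_neg, Pi.neg_apply, xi_e8]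
  have : ∀ i j : Pt, -∑ l : Pt, xiMat (Golay.ptIdx i) (Golay.ptIdx l) * -xiMat (Golay.ptIdx l) (Golay.ptIdx j) =
      8 * if i = j then 8 else 0 := by decide +kernel
  simp only [k, this] at h
  rw [mul_smul, one_smul, e8_apply]
  omega)

theorem mx_mx (v : Λ) : mx • mx • v = v := by rw [← mul_smul, mx_mul, one_smul]

theorem mon_e8 (e : Cd) (σ : M24) (i : Pt) :
    (sgC e * perm σ) • e8 i = if wd e (σ.1 i) = 1 then -e8 (σ.1 i) else e8 (σ.1 i) := by
  simp only [mul_smul, perm_e8, sgC, sign_e8, mem_supp]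

theorem of_mon_e8 {e : Cd} {σ : M24} {i j : Pt} (h : (sgC e * perm σ) • e8 i = e8 j) : σ.1 i = j ∧ wd e j = 0 := by
  rw [mon_e8] at h
  split_ifs at h with k
  · exact absurd h.symm (e8_ne_neg _ _)
  · exact ⟨e8_injective h, e8_injective h ▸ (z2c _).resolve_right k⟩

theorem e8_sub (i j : Pt) : e8 i - e8 j = 2 • v44 i j 1 (-1) := by
  rw [two_smul_v44]; simp [sub_eq_add_neg]

theorem fix_e8 {h : Co0} {i j : Pt} (h1 : h • v44 i j 1 (-1) = v44 i j 1 (-1)) : h • e8 i = e8 i ↔ h • e8 j = e8 j := by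
  have : h • e8 i - h • e8 j = e8 i - e8 j := by rw [← smul_sub, e8_sub, co0_smul_nsmul, h1]
  exact ⟨fun k => by rwa [k, sub_right_inj] at this, fun k => by rwa [k, sub_left_inj] at this⟩

theorem mon_fix {h : Co0} (h1 : h • v1 = v1) (h2 : h • e8 none = e8 none) :
    ∃ d, ∃ σ : M24, En d ∧ σ.1 none = none ∧ σ.1 (some 0) = some 0 ∧ h = sgC d * perm σ := by
  obtain ⟨d, σ, rfl⟩ := exists_mon (mem_Mon_of_e8 (Or.inl h2))
  have a := of_mon_e8 h2
  have b := of_mon_e8 ((fix_e8 h1).1 h2)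
  exact ⟨d, σ, ⟨a.2, b.2⟩, a.1, b.1, rfl⟩

theorem nm_x0 : nm x0 = 32 := nm_v44 p02 _ _

theorem cls_x0 : cls x0 = clC none (some 1) := (clC_eq_cls _ _).symm

theorem stab_x0 {h : Co0} (h1 : h ∈ UU) (h2 : h • x0 = x0) : ∃ d, ∃ σ : M24, En d ∧ wd d (some 1) = 0 ∧
    σ.1 ∈ Golay.Fix {none, some 0, some 1} ∧ h = sgC d * perm σ := by
  have e : e8 (some 0) = x0 - v1 - v2 := Subtype.ext (by
    simp only [AddSubgroup.coe_sub, x0, v1, v2, funext_iff, Pi.sub_apply, v44_apply, e8_apply]; decide)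
  have a : h • e8 (some 0) = e8 (some 0) := by rw [e, smul_sub, smul_sub, h2, h1.1, h1.2]
  obtain ⟨d, σ, k1, k2, k3, rfl⟩ := mon_fix h1.1 ((fix_e8 h1.1).2 a)
  have b := of_mon_e8 ((fix_e8 h1.2).2 a)
  exact ⟨d, σ, k1, b.2, Golay.mem_Fix.2 ⟨σ.2, by simp [k2, k3, b.1]⟩, rfl⟩

theorem mon_mem_UU {d : Cd} {σ : M24} (h1 : En d) (h2 : wd d (some 1) = 0)
    (h3 : σ.1 ∈ Golay.Fix {none, some 0, some 1}) : sgC d * perm σ ∈ UU := by
  have k := (Golay.mem_Fix.1 h3).2
  refine LC.mem_St2.2 ⟨?_, ?_⟩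
  · rw [mul_smul, v1, perm_v44, k _ (by simp), k _ (by simp)]; exact h1.v1
  · rw [mul_smul, v2, perm_v44, k _ (by simp), k _ (by simp), sgC_v44, h2, h1.2]; rfl

/-- Any coordinate off the three points can be brought to the fourth point of the tetrad, with either sign. -/
theorem mv (w : Λ) {k : Pt} (hk : k ∉ ({none, some 0, some 1} : Finset Pt)) {a : ℤ} (h : |(w : Vec) k| = |a|) :
    ∃ d, ∃ σ : M24, En d ∧ wd d (some 1) = 0 ∧ σ.1 ∈ Golay.Fix {none, some 0, some 1} ∧
      (((sgC d * perm σ) • w : Λ) : Vec) (some 2) = a ∧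
      ∀ i ∈ ({none, some 0, some 1} : Finset Pt), (((sgC d * perm σ) • w : Λ) : Vec) i = (w : Vec) i := by
  obtain ⟨σ, h1, h2⟩ := Golay.exists_Fix_map_list {none, some 0, some 1} [k] [some 2] (by simp) (by simp)
    (by simpa using hk) (by decide) rfl (by rw [List.length_singleton]; decide)
  have h3 : σ k = some 2 := by simpa using h2
  have h4 := Golay.mem_Fix.1 h1
  obtain ⟨d, e⟩ := ex_code (s := {none, some 0, some 1, some 2}) (t := if (w : Vec) k = a then ∅ else {some 2})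
    (by split_ifs <;> simp) (by decide)
  have e' : ∀ i ∈ ({none, some 0, some 1} : Finset Pt), wd d i = 0 := fun i hi => by
    rw [e i (by revert i; decide), if_neg]
    split_ifs
    · simp
    · revert i; decide
  refine ⟨d, ⟨σ, h4.1⟩, ⟨e' _ (by simp), e' _ (by simp)⟩, e' _ (by simp), h1, ?_, fun i hi => ?_⟩
  · rw [mul_smul, sgC_apply, e _ (by simp), ← h3, perm_apply' ⟨σ, h4.1⟩]
    by_cases q : (w : Vec) k = a
    · simp [q]
    · rcases abs_eq_abs.1 h with t | t
      · exact absurd t q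
      · rw [if_neg q, if_pos (by simp [h3])]; exact neg_eq_iff_eq_neg.2 t
  · rw [mul_smul, sgC_apply, e' i hi, if_neg zero_ne_one]
    nth_rewrite 1 [← h4.2 i hi]
    exact perm_apply' ⟨σ, h4.1⟩ w i

theorem ex_notMem3 {s : Finset Pt} (h : 3 < s.card) : ∃ k ∈ s, k ∉ ({none, some 0, some 1} : Finset Pt) :=
  exists_mem_notMem_of_card_lt_card (card_le_three.trans_lt h)

section Gen

variable {X : Subgroup Co0} (hm : mx ∈ X) (hP : ∀ d, ∀ σ : M24, En d → wd d (some 1) = 0 →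
  σ.1 ∈ Golay.Fix {none, some 0, some 1} → sgC d * perm σ ∈ X)
include hm hP

theorem tr_step {w : Λ} (h1 : ip v1 w = 16) (h2 : ip v2 w = 16) {k : Pt}
    (hk : k ∉ ({none, some 0, some 1} : Finset Pt)) {a : ℤ} (h : |(w : Vec) k| = |a|) {n : ℤ}
    (e : 2 * n = -(w : Vec) (some 0) - 8 - a) : ∃ g ∈ X, g ∈ UU ∧ ((g • w : Λ) : Vec) (some 0) = n := by
  obtain ⟨d, σ, k1, k2, k3, k4, k5⟩ := mv w hk h
  refine ⟨_, X.mul_mem hm (hP d σ k1 k2 k3), UU.mul_mem ⟨mx_v1, mx_v2⟩ (mon_mem_UU k1 k2 k3), ?_⟩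
  rw [ip_comm, ip_v1] at h1
  rw [ip_comm, ip_v2] at h2
  have := mx_T ((sgC d * perm σ) • w) (i := some 0) (by simp)
  rw [k4, k5 _ (by simp), k5 _ (by simp), k5 _ (by simp)] at this
  rw [mul_smul]
  omega

/-- Transitivity on the 891 common neighbours. -/
theorem tr891 {w : Λ} (hw : nm w = 32) (h1 : ip v1 w = 16) (h2 : ip v2 w = 16) : ∃ g ∈ X, g ∈ UU ∧ g • w = x0 := by
  have st : ∀ {w : Λ} {n : ℤ}, nm w = 32 → ip v1 w = 16 → ip v2 w = 16 → (∃ g ∈ X, g ∈ UU ∧
      ((g • w : Λ) : Vec) (some 0) = n) → (∀ {w : Λ}, nm w = 32 → ip v1 w = 16 → ip v2 w = 16 →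
      (w : Vec) (some 0) = n → ∃ g ∈ X, g ∈ UU ∧ g • w = x0) → ∃ g ∈ X, g ∈ UU ∧ g • w = x0 := by
    rintro w n hw h1 h2 ⟨g, a, b, c⟩ k
    obtain ⟨g', a', b', c'⟩ := k (w := g • w) (by rwa [nm_smul]) (by rwa [LC.ip_smul_of_fix b.1])
      (by rwa [LC.ip_smul_of_fix b.2]) c
    exact ⟨_, X.mul_mem a' a, UU.mul_mem b' b, (mul_smul _ _ _).trans c'⟩
  have s0 : ∀ {w : Λ}, nm w = 32 → ip v1 w = 16 → ip v2 w = 16 → (w : Vec) (some 0) = 0 →
      ∃ g ∈ X, g ∈ UU ∧ g • w = x0 := fun {w} hw h1 h2 e => ⟨1, X.one_mem, UU.one_mem, by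
    rw [ip_comm, ip_v1] at h1
    rw [ip_comm, ip_v2] at h2
    refine (one_smul _ _).trans (eq_of_ip (hw.trans nm_x0.symm) ?_)
    rw [nm_x0, x0, ip_v44]; simp only [Units.val_one]; omega⟩
  have s4 : ∀ {w : Λ}, nm w = 32 → ip v1 w = 16 → ip v2 w = 16 → (w : Vec) (some 0) = -4 →
      ∃ g ∈ X, g ∈ UU ∧ g • w = x0 := fun {w} hw h1 h2 e => by
    obtain ⟨q, hq, a, -⟩ := shape32_four hw (p := some 0) (by rw [e]; rfl)
    refine st hw h1 h2 (tr_step hm hP h1 h2 (k := q) (a := -4) ?_ (a.trans rfl) (by omega)) s0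
    rw [ip_comm, ip_v1] at h1
    rw [ip_comm, ip_v2] at h2
    rw [Int.abs_eq_natAbs] at a
    simp only [mem_insert, mem_singleton, not_or]
    refine ⟨?_, hq, ?_⟩ <;> rintro rfl <;> omega
  have s2 : ∀ {w : Λ}, nm w = 32 → ip v1 w = 16 → ip v2 w = 16 → (w : Vec) (some 0) = -2 →
      ∃ g ∈ X, g ∈ UU ∧ g • w = x0 := fun {w} hw h1 h2 e => by
    rcases shape32 w.2 hw with ⟨p, q, -, a, b, h⟩ | ⟨o, -, h8, h⟩ | ⟨c, p, h, -⟩
    · by_cases k : some 0 = p
      · rw [← k, e] at a; exact absurd a (by decide)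
      by_cases k' : some 0 = q
      · rw [← k', e] at b; exact absurd b (by decide)
      rw [h _ k k'] at e; exact absurd e (by decide)
    · obtain ⟨k, hk, hk'⟩ := ex_notMem3 (s := o) (by omega)
      exact st hw h1 h2 (tr_step hm hP h1 h2 hk' (a := 2) (by rw [h, if_pos hk]; rfl) (by omega)) s4
    · have := h.odd (some 0)
      omega
  have i1 := h1
  have i2 := h2
  rw [ip_comm, ip_v1] at i1
  rw [ip_comm, ip_v2] at i2
  rcases shape32 w.2 hw with ⟨p, q, -, a, b, h⟩ | ⟨o, -, h8, h⟩ | ⟨c, p, -, a, h⟩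
  · have k : ∀ i, |(w : Vec) i| = 4 ∨ (w : Vec) i = 0 := fun i => by
      by_cases e : i = p
      · exact Or.inl (e ▸ a)
      by_cases e' : i = q
      · exact Or.inl (e' ▸ b)
      exact Or.inr (h i e e')
    have k0 := k (some 0)
    have k1 := k none
    rw [Int.abs_eq_natAbs] at k0 k1
    rcases (by omega : (w : Vec) (some 0) = 0 ∨ (w : Vec) (some 0) = -4) with e | e
    exacts [s0 hw h1 h2 e, s4 hw h1 h2 e]
  · have k0 := h (some 0)
    have k1 := h none
    rw [Int.abs_eq_natAbs] at k0 k1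
    exact s2 hw h1 h2 (by split_ifs at k0 k1 <;> omega)
  · have e : p = some 0 := by
      by_contra e
      have k0 := h _ (Ne.symm e)
      rw [Int.abs_eq_natAbs] at k0
      by_cases e' : p = none
      · have k1 := h (some 1) (by simp [e'])
        rw [Int.abs_eq_natAbs] at k1; omega
      · have k1 := h none (Ne.symm e')
        rw [Int.abs_eq_natAbs] at k1; omega
    subst e
    have k1 := h none p01
    rw [Int.abs_eq_natAbs] at k1 a
    exact st hw h1 h2 (tr_step hm hP h1 h2 (k := some 2) (by decide) (a := -1) (h _ (by decide)) (by omega)) s2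

theorem gen_UU : UU ≤ X := fun h hh => by
  obtain ⟨g, a, b, c⟩ := tr891 hm hP (w := h • x0) (by rw [nm_smul, nm_x0])
    (by rw [LC.ip_smul_of_fix hh.1, ip_comm, ip_v1]; simp [x0, v44_apply, z01])
    (by rw [LC.ip_smul_of_fix hh.2, ip_comm, ip_v2]; simp [x0, v44_apply, z01])
  obtain ⟨d, σ, k1, k2, k3, e⟩ := stab_x0 (UU.mul_mem b hh) ((mul_smul _ _ _).trans c)
  exact (X.mul_mem_cancel_left a).1 (e ▸ hP d σ k1 k2 k3)

end Gen

theorem simple_UU : IsSimpleGroup UU := by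
  obtain ⟨e⟩ := S1577.result v1 (-v2) nm_v1 ((nm_neg _).trans nm_v2) ((ip_neg_right _ _).trans (by rw [ip_v1_v2]))
    Cl.GF4 Cl.card_GF4
  have : IsSimpleGroup (PSU 6 Cl.GF4 2) :=
    (Cl.uField_uConj (F := Cl.GF4) (q := 2) Cl.card_GF4).isSimpleGroup_PSU (by norm_num) (by norm_num)
  exact ((MulEquiv.subgroupCongr (Subgroup.ext fun g => (by
    rw [LC.mem_St2, LC.mem_St2, smul_neg, neg_inj] : g ∈ UU ↔ g ∈ LC.St2 v1 (-v2)))).trans e).isSimpleGroup

/-- Sums of two tetrads of the sextet. -/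
theorem ex_DT {k : Pt} (hk : k ∉ ({none, some 0, some 1, some 2} : Finset Pt)) :
    ∃ d, En d ∧ wd d (some 1) = 0 ∧ wd d (some 2) = 0 ∧ wd d k = 1 ∧ mx * sgC d = sgC d * mx := by
  let W : ℕ → Wd := fun a p => if tetN (Golay.ptIdx p) = a ∨ tetN (Golay.ptIdx p) = a % 5 + 1 then 1 else 0
  have h : ∀ k ∉ ({none, some 0, some 1, some 2} : Finset Pt), (∀ l, W (tetN (Golay.ptIdx k)) ⬝ᵥ bs l = 0) ∧
      (∀ i ∈ ({none, some 0, some 1, some 2} : Finset Pt), W (tetN (Golay.ptIdx k)) i = 0) := by decide +kernel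
  obtain ⟨d, hd⟩ := exists_wd (sy_eq_zero_iff.1 (funext (h k hk).1))
  have h2 := (h k hk).2
  refine ⟨d, ⟨hd ▸ h2 _ (by simp), hd ▸ h2 _ (by simp)⟩, hd ▸ h2 _ (by simp), hd ▸ h2 _ (by simp),
    by simp [hd, W], ?_⟩
  refine Commute.mul_left (negOne_comm _).symm (co0_ext_e8 fun j => Subtype.ext (funext fun i => ?_))
  have : (xi • sgC d • e8 j : Λ) = if wd d j = 1 then -(xi • e8 j) else xi • e8 j := by
    simp only [sgC, sign_e8, mem_supp]; split_ifs <;> simp
  rw [mul_smul, mul_smul, this, sgC_apply, xi_e8, hd]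
  by_cases e : tetN (Golay.ptIdx i) = tetN (Golay.ptIdx j)
  · simp only [W, e]; split_ifs <;> simp [xi_e8]
  · have : xiMat (Golay.ptIdx i) (Golay.ptIdx j) = 0 := by
      rw [xiMat, if_neg e, if_neg fun q => e (congrArg _ q)]; simp
    split_ifs <;> simp [xi_e8, this]

section Beta

variable {d : Cd} (h : En d) (h1 : wd d (some 1) = 1)
include h h1

theorem beta_e8 (h2 : wd d (some 2) = 1) : (mx * sgC d * mx) • e8 (some 1) = e8 (some 2) := by
  refine eq_of_ip (by rw [nm_smul, nm_e8, nm_e8]) ?_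
  have a := fun i => mx_T (e8 (some 1)) (i := i)
  have a0 := a none (by simp)
  have a1 := a (some 0) (by simp)
  have a2 := a (some 1) (by simp)
  have a3 := a (some 2) (by simp)
  have b := mx_T (sgC d • mx • e8 (some 1)) (i := some 2) (by simp)
  simp [sgC_apply, h.1, h.2, h1, h2, e8_apply, z01, show (2 : ZMod 23) ≠ 1 by decide] at a0 a1 a2 a3 b
  rw [ip_e8, nm_e8, mul_smul, mul_smul]
  omega

theorem beta_v2 (h2 : wd d (some 2) = 1) :
    (sgC d * (mx * sgC d * mx)) • v2 = v1 - v44 (some 2) (some 0) 1 (-1) := by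
  have e : v1 - v44 (some 2) (some 0) 1 (-1) = v44 none (some 2) 1 (-1) := Subtype.ext (by
    simp only [AddSubgroup.coe_sub, v1, funext_iff, Pi.sub_apply, v44_apply]; decide)
  rw [e]
  refine eq_of_ip (by rw [nm_smul, nm_v2, nm_v44 (by decide)]) ?_
  have a0 := mx_T (sgC d • v2) (i := none) (by simp)
  have a3 := mx_T (sgC d • v2) (i := some 2) (by simp)
  simp [sgC_apply, h.1, h.2, h1, h2, v2, v44_apply, z01, z01.symm, show (2 : ZMod 23) ≠ 1 by decide,
    show (2 : ZMod 23) ≠ 0 by decide] at a0 a3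
  rw [ip_v44, nm_v44 (by decide), mul_smul, mul_smul, mul_smul, mx_v2, sgC_apply, sgC_apply, h.1, h2, v2]
  simp
  omega

theorem braid (h2 : wd d (some 2) = 0) : (sgC d * mx * sgC d * mx * sgC d * mx) • e8 none = e8 none := by
  refine eq_of_ip (nm_smul _ _) ?_
  have a := fun i => mx_T (e8 none) (i := i)
  have a0 := a none (by simp)
  have a1 := a (some 0) (by simp)
  have a2 := a (some 1) (by simp)
  have a3 := a (some 2) (by simp)
  have b := fun i => mx_T (sgC d • mx • e8 none) (i := i)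
  have b0 := b none (by simp)
  have b1 := b (some 0) (by simp)
  have b2 := b (some 1) (by simp)
  have b3 := b (some 2) (by simp)
  have c := mx_T (sgC d • mx • sgC d • mx • e8 none) (i := none) (by simp)
  simp [sgC_apply, h.1, h.2, h1, h2, e8_apply] at a0 a1 a2 a3 b0 b1 b2 b3 c
  simp only [ip_e8, nm_e8, mul_smul, sgC_apply, h.1]
  simp
  omega

end Beta

theorem En.pc {d : Cd} (h : En d) {σ : M24} (h1 : σ.1 none = none ∧ σ.1 (some 0) = some 0 ∨
    σ.1 none = some 0 ∧ σ.1 (some 0) = none) : En (pc σ d) := by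
  have a := pm_apply σ (wd d) none
  have b := pm_apply σ (wd d) (some 0)
  rw [En, wd_pc]
  rcases h1 with ⟨x, y⟩ | ⟨x, y⟩ <;> rw [x, h.1] at a <;> rw [y, h.2] at b
  exacts [⟨a, b⟩, ⟨b, a⟩]

theorem mon_v1 {e : Cd} {σ : M24} (h : (sgC e * perm σ) • v1 = v1) : σ.1 none = none ∧ σ.1 (some 0) = some 0 ∨
    σ.1 none = some 0 ∧ σ.1 (some 0) = none := by
  have := (v12_clB none (some 0)).csm_mon rfl e σ
  rw [clB_eq_cls, csm_cls, show (sgC e * perm σ) • v44 none (some 0) 1 (-1) = v44 none (some 0) 1 (-1) from h,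
    ← clB_eq_cls, pm_e2] at this
  exact (sy_e2_eq_iff (σ.1.injective.ne p01) p01).1 this.2.symm

theorem fix11 (χ : Cd → ZMod 2) (ha : ∀ a b, En a → En b → χ (a + b) = χ a + χ b)
    (h : ∀ d, En d → χ (pc m11 d) = χ d) (d : Cd) (hd : En d) : χ d = 0 := by
  have p : ∀ {d}, En d → En (pc m11 d) := fun h => h.pc (Or.inl ⟨rfl, by decide⟩)
  have inj : ∀ b, En b → pc m11 b + b = 0 → b = 0 := fun b hb e => by
    obtain ⟨c, c1, c2, c3⟩ := exists_d11
    rcases c3 b (e ▸ d0_zero) with k | k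
    · exact hb.eq_zero k
    obtain ⟨x, hx⟩ := exists_wd (sy_eq_zero_iff.1 (funext w11_mem))
    have := d0_iff.1 k none (some 0)
    rw [map_add, Pi.add_apply, Pi.add_apply, hb.1, hb.2] at this
    rcases c3 x (by rw [wd_injective (show wd (pc m11 x) = wd x by rw [wd_pc, hx]; decide +kernel)]; exact d0_self x)
      with k | k <;> have k := d0_iff.1 k none (some 0)
    · rw [hx] at k; exact absurd k (by decide)
    · rw [map_add, Pi.add_apply, Pi.add_apply, hx, add_add_add_comm, show wd c none + wd c (some 0) = 0 by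
        simpa using this] at k
      exact absurd k (by decide)
  obtain ⟨⟨b, hb⟩, e⟩ := Finite.surjective_of_injective (f := fun b : {d // En d} =>
    (⟨pc m11 b + b, (p b.2).add b.2⟩ : {d // En d})) (fun a b e => Subtype.ext (cd_eq_of_add (inj _ (a.2.add b.2) (by
      rw [pc_add, add_add_add_comm, show pc m11 a + a = pc m11 b + b from congrArg Subtype.val e, cd_add_self]))))
    ⟨d, hd⟩
  rw [← show pc m11 b + b = d from congrArg Subtype.val e, ha _ _ (p hb) hb, h b hb, z2_add_self]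

open Classical in
theorem card_En : 1024 ≤ (univ.filter En).card := by
  let φ : Cd →+ ZMod 2 × ZMod 2 := AddMonoidHom.mk' (fun d => (wd d none, wd d (some 0))) fun a b => by simp
  have h1 := φ.ker.card_mul_index
  have h2 : φ.ker.index ≤ 4 := by
    rw [AddSubgroup.index_ker]; exact (Finite.card_subtype_le _).trans (by simp)
  rw [Nat.card_eq_fintype_card (α := Cd), card_Cd, Nat.card_eq_fintype_card,
    Fintype.card_of_subtype (univ.filter En) fun d => by simp [φ, En]] at h1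
  nlinarith

theorem cls_v1 : cls v1 = c0 := cls_c0

theorem ne_c0 {x : Λ} (hx : nm x = 32) (h : ip x v1 = 16) : cls x ≠ 0 ∧ cls x ≠ c0 :=
  ⟨cls_ne_zero hx, cls_v1 ▸ cls_ne_of_ip hx nm_v1 (by rw [h]; norm_num)⟩

theorem ip_lam0 : ip (lam (some 0)) v1 = 16 := by rw [ip_v1]; simp [lam_apply]

theorem not_ev0 (a : Cd) (i : Pt) : ¬ Ev0 (a, sy (e1 i)) := by
  rw [Ev0, sy_dot_om, sum_e1]; exact one_ne_zero

/-- Every class other than `0, c0` is conjugate to an odd class. -/
theorem ex_odd {c : LL} (h0 : c ≠ 0) (h1 : c ≠ c0) : ∃ h : Co0, h • v1 = v1 ∧ ¬ Ev0 (csm h c) := by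
  by_contra k
  push Not at k
  have n2 : ¬ ∀ h : Co0, h • v1 = v1 → Ev0 (csm h (cls v2)) := fun q => by
    obtain ⟨g, a, b⟩ := trans_pair nm_v1 nm_v2 nm_v1 (nm_lam (some 0)) (by rw [ip_v1_v2, ip_comm, ip_lam0])
    have := q g a
    rw [csm_cls, b, cls_lam] at this
    exact not_ev0 _ _ this
  have e1 : ∀ h : Co0, h • v1 = v1 → Ev0 (csm h (cls v1)) := fun h e => by rw [csm_cls, e, cls_v1]; exact clB_par _ _
  let W : AddSubgroup LL :=
    { carrier := {x | ∀ h ∈ UU, Ev0 (csm h x)}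
      add_mem' := fun a b h hh => by rw [csm_add]; exact (a h hh).add (b h hh)
      zero_mem' := fun h _ => by rw [csm_zero]; exact ev0_zero 0
      neg_mem' := fun a => by rwa [ll_neg] }
  obtain ⟨g, hg, e⟩ := exists_odd
  have := e8_mem W (fun h hh x hx g hg => by rw [← csm_mul]; exact hx _ (UU.mul_mem hg hh))
    (fun h hh => e1 h hh.1) (fun h hh => by rw [csm_cls, hh.2, v2, ← clB_eq_cls]; exact clB_par _ _)
    (c := c) (fun h hh => k h hh.1) (by
      rintro (q | q | q | q)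
      · exact h0 q
      · exact h1 (q.trans cls_c0)
      · exact n2 (q ▸ k)
      · exact n2 fun h a => by
          have := (k h a).add (e1 h a)
          rwa [← csm_add, q, add_comm, ← add_assoc, ll_add_self, zero_add] at this) g hg
  rw [ev0_iff, v0, ← cls_e8 none, e] at this
  exact one_ne_zero this

theorem mx_odd : csm mx (om, sy (e1 (some 0))) = (om, sy (e1 none) + sy (e1 (some 1)) + sy (e1 (some 2))) := by
  have e : mx • (lam (some 0) + e8 (some 0)) = lam none + lam (some 1) + lam (some 2) - twoC om :=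
    Subtype.ext (funext fun i => by
      have h := mx_apply (lam (some 0) + e8 (some 0)) i
      have : ∀ i : Pt, -∑ j : Pt, xiMat (Golay.ptIdx i) (Golay.ptIdx j) * ((if j = some 0 then -3 else 1) +
          if j = some 0 then 8 else 0) = 8 * ((if i = none then -3 else 1) + (if i = some 1 then -3 else 1) +
          (if i = some 2 then -3 else 1) - 2) := by decide +kernel
      simp only [AddSubgroup.coe_add, Pi.add_apply, lam_apply, e8_apply, this] at h
      simp only [AddSubgroup.coe_add, AddSubgroup.coe_sub, Pi.add_apply, Pi.sub_apply, lam_apply, twoC_apply, wd_om,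
        Pi.one_apply, if_true]
      omega)
  have := congrArg cls e
  rw [← csm_cls, cls_sub, cls_add, cls_add, cls_add] at this
  simpa [cls_lam, cls_e8, cls_twoC_om] using this

theorem span2 {μ : LL} (h : ∀ c, Ev0 c → pol c c0 = 0 → pol μ c = 0) : μ = 0 ∨ μ = v0 ∨ μ = c0 ∨ μ = v0 + c0 :=
  mem_span_of_pol fun x a b => (pol_comm _ _).trans (h x (ev0_iff.2 ((pol_comm _ _).trans a)) b)

theorem span1 {μ : LL} (h : ∀ c, pol c c0 = 0 → pol μ c = 0) : μ = 0 ∨ μ = c0 := by
  rcases mem_span_of_pol (a := 0) (b := c0) (c := μ) fun x _ b => (pol_comm _ _).trans (h x b) with e | e | e | e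
  exacts [Or.inl e, Or.inl e, Or.inr e, Or.inr (e.trans (zero_add _))]

theorem pol_T0 {c : LL} (h : Ev0 c) (a : ZMod 2) : pol (a • om, 0) c = 0 := by
  rw [pol, show c.2 ⬝ᵥ a • om = 0 by rw [dotProduct_smul, h, smul_zero]]; simp

/-- The classes in `V12` of the neighbours of `v1`. -/
theorem v12_short {x : Λ} (hx : nm x = 32) (h : ip x v1 = 16) (k : V12 (cls x)) : ∃ l, l ≠ none ∧ l ≠ some 0 ∧
    ∀ c, Ev0 c → pol c c0 = 0 → pol (cls x) c = pol (clB none l) c := by
  have key : ∀ {i j : Pt} {s t : ℤˣ}, i ≠ j → x = v44 i j s t → i = none ∨ i = some 0 → j ≠ none ∧ j ≠ some 0 ∧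
      ∀ c, Ev0 c → pol c c0 = 0 → pol (cls x) c = pol (clB none j) c := by
    rintro i j s t hij rfl hi
    rw [ip_v1] at h
    refine ⟨?_, ?_, fun c a b => ?_⟩
    · rintro rfl
      obtain rfl := hi.resolve_left hij
      rcases Int.units_eq_one_or s with rfl | rfl <;> rcases Int.units_eq_one_or t with rfl | rfl <;>
        simp [v44_apply] at h
    · rintro rfl
      obtain rfl := hi.resolve_right hij
      rcases Int.units_eq_one_or s with rfl | rfl <;> rcases Int.units_eq_one_or t with rfl | rfl <;>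
        simp [v44_apply] at h
    · rw [pol_c0] at b
      rw [cls_v44, pol_comm, pol_comm (clB _ _), pol_clB]
      split_ifs
      · rw [pol_clC, a, zero_add]; rcases hi with rfl | rfl; exacts [rfl, by rw [z2_eq_of_add b]]
      · rw [pol_clB]; rcases hi with rfl | rfl; exacts [rfl, by rw [z2_eq_of_add b]]
  rcases short_cases hx with ⟨i, j, s, t, hij, e⟩ | ⟨o, ho, d, rfl⟩ | ⟨d, i, rfl⟩
  · by_cases hi : i = none ∨ i = some 0
    · exact ⟨j, key hij e hi⟩
    by_cases hj : j = none ∨ j = some 0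
    · exact ⟨i, key hij.symm (e.trans (v44_comm _ _ _ _)) hj⟩
    push Not at hi hj
    rw [ip_v1, e] at h
    simp [v44_apply, hi.1.symm, hi.2.symm, hj.1.symm, hj.2.symm] at h
  · exact (clT_fst_ne ho _ (cls_oct ho d ▸ k.1)).elim
  · have := k.2
    rw [cls_sgC_lam, clX_par] at this
    exact (one_ne_zero this).elim

theorem no4 {k l m : Pt} (hk : k ≠ none ∧ k ≠ some 0) (hl : l ≠ none ∧ l ≠ some 0) (hm : m ≠ none ∧ m ≠ some 0)
    (h : ∀ d, En d → wd d k = wd d l + wd d m) : False := by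
  obtain ⟨d, e⟩ := ex_code (s := {none, some 0, k, l, m}) (t := {k, l, m}) (by intro; simp; tauto)
    (card_le_five.trans_lt (by norm_num))
  have := h d ⟨by simp [e, hk.1.symm, hl.1.symm, hm.1.symm], by simp [e, hk.2.symm, hl.2.symm, hm.2.symm]⟩
  simp [e] at this

end Cfsg.Agent.Gr.R4
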