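import Mathlib
import Cfsg.Agent.Gr.R4.Def
import Cfsg.Agent.Gr.SCYa
import Cfsg.Agent.Gr.Fix1

/-! Orbits of the centraliser of `t0`, `s0` on the neighbours of `t0`. -/

set_option autoImplicit false

namespace Cfsg.Agent.Gr.R4.SphA

open Subgroup Cfsg.Agent.Spor Cfsg.Agent.Spor.Leech Cfsg.Agent.Spor.LC Cfsg.Agent.Gr.TriV

theorem swap_even {y : Λ} (hy : nm y = 32) (h1 : ip y v1 = 16) (h2 : ip y v2 = 8)
    (h0 : (y : Vec) none % 2 = 0) : ∃ h ∈ UU, h • y = v1 - y := by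
  rw [ip_v1] at h1
  rw [ip_v2] at h2
  rcases shape32 y.2 hy with ⟨p, q, -, a, b, h⟩ | ⟨o, ho, h8, h⟩ | ⟨c, p, -, a, h⟩
  · have k : ∀ i, (y : Vec) i % 4 = 0 := fun i => by
      by_cases e : i = p
      · rw [e]; rw [Int.abs_eq_natAbs] at a; omega
      by_cases e' : i = q
      · rw [e']; rw [Int.abs_eq_natAbs] at b; omega
      rw [h i e e']; rfl
    have := k (some 1)
    have := k (some 0)
    omega
  · have a := h none
    have b := h (some 0)
    have c := h (some 1)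
    rw [Int.abs_eq_natAbs] at a b c
    have a1 : none ∈ o := by by_contra n; rw [if_neg n] at a; split_ifs at b <;> omega
    have b1 : some 0 ∈ o := by by_contra n; rw [if_neg n] at b; split_ifs at a <;> omega
    rw [if_pos a1] at a
    rw [if_pos b1] at b
    have c1 : some 1 ∉ o := fun n => by rw [if_pos n] at c; omega
    have hs : ({none, some 0} : Finset GolayPt) ⊆ o := by simp [Finset.insert_subset_iff, a1, b1]
    obtain ⟨d, hd, e⟩ := exists_code_inter (s := insert (some 1) o) (t := o \ {none, some 0})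
      (Finset.sdiff_subset.trans (Finset.subset_insert _ _)) fun d hd hdo => by
        rcases d.eq_empty_or_nonempty with rfl | hne
        · simp
        · have k1 := hd.eight_le hne
          have k2 := Finset.card_le_card hdo
          have k3 := hd.four_dvd
          rw [Finset.card_insert_of_notMem c1, h8] at k2
          have k4 : d.erase (some 1) ⊆ d ∩ o := fun x hx => Finset.mem_inter.2 ⟨Finset.mem_of_mem_erase hx,
            (Finset.mem_insert.1 (hdo (Finset.mem_of_mem_erase hx))).resolve_left (Finset.ne_of_mem_erase hx)⟩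
          have k5 := Finset.card_le_card k4
          have k6 := Finset.pred_card_le_card_erase (s := d) (a := some 1)
          rw [octad_eq_of_five_le hd (by omega) ho.1 h8 (by omega), Finset.inter_eq_right.2 Finset.sdiff_subset,
            Finset.card_sdiff_of_subset hs, h8, Finset.card_pair p01]
          decide
    have m : ∀ i ∈ insert (some 1) o, i ∈ d ↔ i ∈ o \ {none, some 0} := fun i hi => by
      rw [← e, Finset.mem_inter, and_iff_left hi]
    have av : Av d := ⟨by rw [m _ (by simp [a1])]; simp, by rw [m _ (by simp [b1])]; simp,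
      by rw [m _ (by simp)]; simp [c1]⟩
    refine ⟨_, sign_mem hd av, Subtype.ext (funext fun i => ?_)⟩
    rw [sign_apply, AddSubgroup.coe_sub, Pi.sub_apply, v1, v44_apply]
    by_cases i0 : i = none
    · rw [i0, if_neg av.1, if_pos rfl, if_neg p01]; simp only [Units.val_one]; omega
    by_cases i1 : i = some 0
    · rw [i1, if_neg av.2.1, if_neg p01.symm, if_pos rfl]; simp only [Units.val_neg, Units.val_one]; omega
    rw [if_neg i0, if_neg i1]
    by_cases io : i ∈ o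
    · rw [if_pos ((m i (Finset.mem_insert_of_mem io)).2 (by simp [io, i0, i1]))]; omega
    · have := h i
      rw [if_neg io, abs_eq_zero] at this
      rw [this]; simp
  · by_cases e : none = p
    · rw [← e, Int.abs_eq_natAbs] at a; omega
    · have := h _ e
      rw [Int.abs_eq_natAbs] at this; omega

theorem mx_mem : mx ∈ UU := mem_St2.2
  ⟨by rw [mx, mul_smul, v1, FixH.xi_v44 (by decide), negOne_smul, neg_neg],
    by rw [mx, mul_smul, v2, FixH.xi_v44 (by decide), negOne_smul, neg_neg]⟩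

theorem mx_none (y : Λ) : 2 * ((mx • y : Λ) : Vec) none =
    (y : Vec) none - (y : Vec) (some 0) - (y : Vec) (some 1) - (y : Vec) (some 2) := by
  have h := eight_mul_smul_apply xi y none
  have k : ∀ j : GolayPt, xiMat (Golay.ptIdx none) (Golay.ptIdx j) = (if j = none then -4 else 0) +
      (if j = some 0 then 4 else 0) + (if j = some 1 then 4 else 0) + if j = some 2 then 4 else 0 := by decide
  simp only [xi_e8, k, add_mul, ite_mul, zero_mul, Finset.sum_add_distrib, Finset.sum_ite_eq', Finset.mem_univ,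
    if_true] at h
  rw [mx, mul_smul, negOne_smul, AddSubgroup.coe_neg, Pi.neg_apply]
  omega

theorem swap8 {y : Λ} (hy : nm y = 32) (h1 : ip y v1 = 16) (h2 : ip y v2 = 8) : ∃ h ∈ UU, h • y = v1 - y := by
  have key : ∀ g ∈ UU, ((g • y : Λ) : Vec) none % 2 = 0 → ∃ h ∈ UU, h • y = v1 - y := fun g hg e => by
    obtain ⟨h, a, b⟩ := swap_even (y := g • y) (by rwa [nm_smul]) (by rwa [← hg.1, ip_smul])
      (by rwa [← hg.2, ip_smul]) e
    refine ⟨g⁻¹ * h * g, mul_mem (mul_mem (inv_mem hg) a) hg, ?_⟩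
    rw [mul_smul, mul_smul, b, smul_sub, inv_smul_smul, (inv_mem hg).1]
  rcases mem_leech_iff.1 y.2 with ⟨c, h⟩ | ⟨c, h⟩
  · have := h.2.1 none
    exact swap_even hy h1 h2 (by split_ifs at this <;> omega)
  obtain ⟨d, hd, e⟩ := exists_code_inter_of_card_lt (s := {none, some 0, some 1, some 2}) (t := {some 2})
    (by decide) (by decide)
  have m : ∀ i ∈ ({none, some 0, some 1, some 2} : Finset GolayPt), i ∈ d ↔ i = some 2 := fun i hi => by
    rw [← Finset.mem_singleton, ← e, Finset.mem_inter, and_iff_left hi]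
  have av : Av d := ⟨by rw [m _ (by decide)]; decide, by rw [m _ (by decide)]; decide,
    by rw [m _ (by decide)]; decide⟩
  by_cases o : ((mx • y : Λ) : Vec) none % 2 = 0
  · exact key _ mx_mem o
  refine key _ (mul_mem mx_mem (sign_mem hd av)) ?_
  have a := mx_none y
  have b := mx_none (sign d hd • y)
  have := h.2.1 (some 2)
  rw [sign_apply, sign_apply, sign_apply, sign_apply, if_neg av.1, if_neg av.2.1, if_neg av.2.2,
    if_pos ((m _ (by decide)).2 rfl)] at b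
  rw [mul_smul]
  split_ifs at this <;> omega

theorem swap_tq {p r y : Λ} (hp : nm p = 32) (hr : nm r = 32) (hy : nm y = 32) (h1 : ip p r = 16)
    (h2 : ip p y = 16) (h3 : ip r y = 8) (a b e : ZMod 2) : ∃ k : K, k * tq a (cls p) * k⁻¹ = tq a (cls p) ∧
      k * tq b (cls r) * k⁻¹ = tq b (cls r) ∧ k * tq e (cls y) * k⁻¹ = tq a (cls p) * tq e (cls y) := by
  obtain ⟨m, m1, m2⟩ := trans_pair hp hr nm_v1 nm_v2 (h1.trans ip_v1_v2.symm)
  obtain ⟨h, a1, a2⟩ := swap8 (y := m • y) (by rwa [nm_smul]) (by rwa [← m1, ip_smul, ip_comm])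
    (by rwa [← m2, ip_smul, ip_comm])
  obtain ⟨γ, g0, g1, g2⟩ := exists_lift_two (m⁻¹ * h * m) (cls_ne_zero hp) (cls_ne_zero hr)
    (cls_ne_of_ip hp hr (by rw [h1]; norm_num)) 0 0
  have k1 : act γ * tq a (cls p) * (act γ)⁻¹ = tq a (cls p) := by
    rw [act_conj, g1, g0, add_zero, csm_cls, mul_smul, mul_smul, m1, a1.1, ← m1, inv_smul_smul]
  have k2 : act γ * tq b (cls r) * (act γ)⁻¹ = tq b (cls r) := by
    rw [act_conj, g2, g0, add_zero, csm_cls, mul_smul, mul_smul, m2, a1.2, ← m2, inv_smul_smul]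
  have k3 := act_conj γ e (cls y)
  rw [g0, csm_cls, mul_smul, mul_smul, a2, ← m1, ← smul_sub, inv_smul_smul, cls_sub] at k3
  rw [tq_mul]
  by_cases o : e + eps γ (cls y) = a + e + (cls y).2 ⬝ᵥ (cls p).1
  · exact ⟨_, k1, k2, o ▸ k3⟩
  obtain ⟨x, x1, x2, x3⟩ : ∃ x, pol x (cls p) = 0 ∧ pol x (cls r) = 0 ∧ pol x (cls y) = 1 := by
    by_contra n
    rcases mem_span_of_pol (a := cls p) (b := cls r) (c := cls y) fun x a b =>
      (zmod2_cases _).resolve_right fun q => n ⟨x, a, b, q⟩ with q | q | q | q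
    · exact cls_ne_zero hy q
    · exact cls_ne_of_ip hp hy (by rw [h2]; norm_num) q.symm
    · exact cls_ne_of_ip hr hy (by rw [h3]; norm_num) q.symm
    · exact cls_ne_of_ip (v := p - r) (by rw [nm_sub, hp, hr, h1]; norm_num) hy
        (by rw [ip_sub_left, h2, h3]; norm_num) (by rw [q, cls_sub])
  refine ⟨tq 0 x * act γ, ?_, ?_, ?_⟩ <;> rw [← conj_conj]
  · rw [k1, tq_conj, x1, add_zero]
  · rw [k2, tq_conj, x2, add_zero]
  · rw [k3, tq_conj, pol_add_right, x1, x3, zero_add,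
      (by decide : ∀ g f : ZMod 2, ¬ g = f → g + 1 = f) _ _ o]

theorem swap4A {y : K} (hy : y ∈ O1 t0) (h : lm s0 y = 1 / 32) :
    ∃ k, k * t0 = t0 * k ∧ k * s0 * k⁻¹ = s0 ∧ k * y * k⁻¹ = t0 * y := by
  have h0 := ((pow_of_lm s0_mem.1 hy.1).2.1 h).1
  have hw : y * s0 * y ∈ O1 t0 := by
    have := O1_conj t0_mem s0_mem (O1_comm t0_mem hy).symm
    rwa [DD_inv hy.1] at this
  obtain ⟨g, g1, g2⟩ := O2_std s0_mem.1 ⟨hw.1, h0⟩
  have hu := conj_mem_DD g t0_mem
  have hy' := conj_mem_DD g hy.1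
  obtain ⟨f, p, hp, e1⟩ := exists_tq hu (mem_QK_of_O2 hu ((mem_O2_conj g t0_mem).2
    (O2_of_lm_zero t0_mem s0_mem hw h0)) (by
      rw [← conj_mul', DD_mul_cancel t0_mem, conj_mul', g1, g2, t0_zz_t0]))
  have h1 : lm t0 (g * y * g⁻¹) = 1 / 32 := by rw [← g1, lm_cj g s0_mem.1 hy.1, h]
  obtain ⟨e, v, hv, e2⟩ := exists_tq hy' ((fib4A hy' h1).1 (by rw [← g2, ← g1, conj_sandwich]))
  have h2 := ((mem_O1_conj g t0_mem).2 s0_mem).2
  have h3 := ((mem_O1_conj g t0_mem).2 hy).2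
  rw [e1, g1, t0_v1, (lm_tq_iff _ _ hp nm_v1).1] at h2
  rw [e1, e2, (lm_tq_iff _ _ hp hv).1] at h3
  obtain ⟨r, hr, h4, e3⟩ := GenH.exists_sign nm_v1 h2
  obtain ⟨v', hv', h5, e4⟩ := GenH.exists_sign hv h3
  rw [e4] at e2
  rw [t0_v1, e3] at g1
  rw [t0_v1, e3, e2, (lm_tq_iff _ _ hr hv').2.1] at h1
  obtain ⟨k, k1, k2, k3⟩ := swap_tq hp hr hv' h4 h5 (h1.resolve_right fun h6 => by
    have h8 : nm (p - r - v') = 16 := by
      rw [nm_sub, nm_sub, ip_sub_left, hp, hr, hv', h4, h5, h6]; norm_num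
    have := eq_zero_of_nm_lt (v := p - r - v') (by omega)
    rw [this, nm_zero] at h8
    omega) f 0 e
  rw [← e1] at k1 k3
  rw [← g1] at k2
  rw [← e2, ← conj_mul'] at k3
  have c : ∀ {a b : K}, k * (g * a * g⁻¹) * k⁻¹ = g * b * g⁻¹ → g⁻¹ * k * g * a * (g⁻¹ * k * g)⁻¹ = b :=
    fun {a b} o => by
      rw [show g⁻¹ * k * g * a * (g⁻¹ * k * g)⁻¹ = g⁻¹ * (k * (g * a * g⁻¹) * k⁻¹) * g by group, o]; group
  exact ⟨_, mul_inv_eq_iff_eq_mul.1 (c k1), c k2, c k3⟩

theorem trans3A {y z : K} (hy : y ∈ O1 t0) (h : lm s0 y = 13 / 256) (hz : z ∈ O1 t0) (h' : lm s0 z = 13 / 256) :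
    ∃ k, k * t0 = t0 * k ∧ k * s0 * k⁻¹ = s0 ∧ k * y * k⁻¹ = z := by
  have s : S3P s0 (s0 * y) := by
    refine ⟨s0_mem.1, fun e => ?_, (pow_of_lm hy.1 s0_mem.1).1 ((lm_symm _ _).trans h), ?_⟩
    · rw [eq_inv_of_mul_eq_one_left e, DD_inv hy.1, lm_self hy.1] at h
      norm_num at h
    · rw [DD_mul_cancel s0_mem.1, mul_inv_rev, DD_inv hy.1, DD_inv s0_mem.1]
  have hu : t0 ∈ D3 s0 (s0 * y) := ⟨O1_symm t0_mem s0_mem,
    (Commute.mul_right (O1_comm t0_mem s0_mem) (O1_comm t0_mem hy)).eq⟩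
  have h1 := GenH.card_orbit (centralizer {t0, s0}) y
  have h2 := SY.card_stab (SY.good0 hy h) s hu (S := centralizer {t0, s0} ⊓ centralizer {y}) fun k hk => by
    obtain ⟨a, b⟩ := GenH.mem_cent2.1 hk.1
    exact ⟨Commute.mul_right b (mem_cent.1 hk.2), b, a⟩
  have h3 : fs (fun x => ∃ k ∈ centralizer ({t0, s0} : Set K), k * y * k⁻¹ = x) =
      fs fun x => x ∈ O1 t0 ∧ lm s0 x = 13 / 256 := by
    refine Finset.eq_of_subset_of_card_le (fun x hx => ?_) ?_
    · obtain ⟨k, hk, rfl⟩ := mem_fs.1 hx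
      obtain ⟨a, b⟩ := GenH.mem_cent2.1 hk
      refine mem_fs.2 ⟨O1_conj t0_mem hy a, ?_⟩
      rw [← h, ← lm_cj k s0_mem.1 hy.1, conj_eq_of_comm b]
    · change kk (13 / 256) ≤ nb _
      rw [SY.card_L] at h1
      rw [SY.kk_three]
      exact Nat.le_of_mul_le_mul_right (h1.le.trans (Nat.mul_le_mul_left _ h2)) (by norm_num)
  have h4 : z ∈ fs fun x => x ∈ O1 t0 ∧ lm s0 x = 13 / 256 := mem_fs.2 ⟨hz, h'⟩
  rw [← h3] at h4
  obtain ⟨k, hk, e⟩ := mem_fs.1 h4
  exact ⟨k, (GenH.mem_cent2.1 hk).1, conj_eq_of_comm (GenH.mem_cent2.1 hk).2, e⟩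

theorem nbr {x : Λ} (hx : nm x = 32) (h : ip v1 x = 16 ∨ ip v1 x = -16) (e : ZMod 2) : tq e (cls x) ∈ O1 t0 :=
  ⟨tq_cls_mem _ hx, by rw [t0_v1]; exact (lm_tq_iff _ _ nm_v1 hx).1.2 h⟩

theorem t1_mem : t1 ∈ O1 t0 := nbr (nm_lam _) (.inl (by rw [ip_comm, ip_v1, lam_apply, lam_apply]; decide)) 0

theorem t2_mem : tau * t1 * tau⁻¹ ∈ O1 t0 := O1_conj t0_mem t1_mem tau_t0

theorem pow_ne : (t1 * (tau * t1 * tau⁻¹)) ^ 4 ≠ 1 := fun e => by
  have p : pol (cls (lam (some 0))) (om, 0) = 1 := by rw [pol_comm, pol_om, cls_lam, sy_dot_om, sum_e1]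
  have a0 : t1 * zz * t1⁻¹ = zz := by rw [t1, tq_mul_zz, ← zz_mul_tq, mul_inv_cancel_right]
  have a1 : t1 * tq 1 (om, 0) * t1⁻¹ = tq 0 (om, 0) := by rw [t1, tq_conj, p]; rfl
  have a2 : t1 * tq 0 (om, 0) * t1⁻¹ = tq 1 (om, 0) := by rw [t1, tq_conj, p]; rfl
  have c : ∀ {a b : K}, t1 * a * t1⁻¹ = b → tau * t1 * tau⁻¹ * (tau * a * tau⁻¹) * (tau * t1 * tau⁻¹)⁻¹ =
      tau * b * tau⁻¹ := fun {a b} o => by rw [← o]; group
  have b0 := c a0
  have b1 := c a1
  have b2 := c a2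
  rw [tau_conj_zz] at b0
  rw [tau_conj_one, tau_conj_zero] at b1 b2
  generalize tau * t1 * tau⁻¹ = u at e b0 b1 b2
  have : (t1 * u) ^ 4 * zz * ((t1 * u) ^ 4)⁻¹ = tq 1 (om, 0) := by
    rw [show (t1 * u) ^ 4 = t1 * u * t1 * u * t1 * u * t1 * u by simp only [pow_succ, pow_zero, one_mul, mul_assoc]]
    simp only [← conj_conj, a0, a1, a2, b0, b1, b2]
  rw [e, one_mul, inv_one, mul_one, zz, tq_inj] at this
  exact om_ne_zero (congrArg Prod.fst this.2).symm

theorem lm_t12 : lm t1 (tau * t1 * tau⁻¹) = 13 / 256 ∨ lm t1 (tau * t1 * tau⁻¹) = 5 / 256 := by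
  have n := pow_ne
  have a := t1_mem
  have b := t2_mem
  generalize tau * t1 * tau⁻¹ = u at n b
  have c : t1 * u ≠ u * t1 := fun e => n (by
    rw [show 4 = 2 * 2 from rfl, pow_mul, (show Commute t1 u from e).mul_pow, sq t1, sq u, DD_mul_self a.1,
      DD_mul_self b.1, one_mul, one_pow])
  rcases O1_table t0_mem a b with f | f | f | f | f | f | f | f
  · exact absurd (by rw [eq_of_lm a.1 b.1 f.1]) c
  · exact absurd (comm_of_lm a.1 b.1 (.inl f.1)) c
  · exact absurd (comm_of_lm a.1 b.1 (.inr f.1)) c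
  · exact absurd (comm_of_lm a.1 b.1 (.inl f.1)) c
  · refine absurd ?_ n
    rw [show 4 = 2 * 2 from rfl, pow_mul, sq (t1 * u), ← mul_assoc, f.2.2, mul_assoc, DD_mul_self b.1, mul_one, sq,
      DD_mul_self t0_mem]
  · exact .inr f.1
  · exact .inl f.1
  · exact absurd ((pow_of_lm b.1 a.1).2.1 ((lm_symm _ _).trans f.1)).2 n

end Cfsg.Agent.Gr.R4.SphA
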