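import Mathlib
import Cfsg.Agent.Gr.R4.Le

/-! Group-theoretic facts on the centraliser of `t0`: lifts, the triality element, generation. -/

set_option autoImplicit false

namespace Cfsg.Agent.Gr.R4

open Matrix Subgroup Cfsg.Agent.Spor Cfsg.Agent.Spor.Leech Cfsg.Agent.Gr.Rk Cfsg.Agent.Gr.Am

variable {g g' x t : K} {h h' : Co0} {e f : ZMod 2} {c : LL} {d : Cd}

theorem tq_HH : tq e c ∈ HH ↔ pol c c0 = 0 := mem_cent.trans tq_comm_iff

theorem z_HH : zz ∈ HH := mem_cent.2 zz_comm_t0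

theorem tau_HH : tau ∈ HH := mem_cent.2 tau_t0

theorem pol_v0_c0 : pol v0 c0 = 0 := by rw [pol_om]; exact clB_par _ _

theorem zs_HH : zs ∈ HH := tq_HH.2 pol_v0_c0

theorem pol_BB (i j k l : Pt) : pol (clB i j) (clB k l) = 0 := (v12_clB i j).pol (v12_clB k l)

theorem tB_HH (e : ZMod 2) (i j : Pt) : tq e (clB i j) ∈ HH := tq_HH.2 (pol_BB _ _ _ _)

theorem zz_zs : zz * zs = tq 0 v0 := zz_mul_tq _ _

theorem tq_or (e f : ZMod 2) (c : LL) : tq e c = tq f c ∨ tq e c = zz * tq f c := by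
  rw [zz_mul_tq]; rcases z2c e with rfl | rfl <;> rcases z2c f with rfl | rfl <;> simp [show (1 + 1 : ZMod 2) = 0 from rfl]

theorem Ov.mul (a : Ov g h) (b : Ov g' h') : Ov (g * g') (h * h') :=
  ⟨HH.mul_mem a.mem b.mem, (Commute.mul_right a.z b.z).eq, by rw [mul_smul, b.fix, a.fix], fun e c => by
    obtain ⟨f, k⟩ := b.cj e c
    obtain ⟨f', k'⟩ := a.cj f (csm h' c)
    exact ⟨f', by rw [← conj_conj, k, k', csm_mul]⟩⟩

theorem Ov.inv (a : Ov g h) : Ov g⁻¹ h⁻¹ :=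
  ⟨HH.inv_mem a.mem, (Commute.inv_right a.z).eq, by rw [inv_smul_eq_iff, a.fix], fun e c => by
    obtain ⟨f, k⟩ := a.cj 0 (csm h⁻¹ c)
    rw [ActH.csm_csm_inv] at k
    rcases tq_or e f c with q | q
    · exact ⟨0, by rw [q, ← k, ZH.cj_inv]⟩
    · exact ⟨0 + 1, by rw [q, ← k, ← conj_eq_of_comm a.z.symm, ← conj_mul', ZH.cj_inv, zz_mul_tq]⟩⟩

theorem ov_tq (e : ZMod 2) (hc : pol c c0 = 0) : Ov (tq e c) 1 :=
  ⟨tq_HH.2 hc, FixH.zz_comm _ _, one_smul _ _, fun f b => ⟨_, by rw [tq_conj, csm_one]⟩⟩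

theorem Ov.uniq (a : Ov g h) (b : Ov g h') : h = h' := by
  rcases eq_of_csm (h := h⁻¹ * h') fun c => (by
    obtain ⟨f, e⟩ := a.cj 0 c
    obtain ⟨f', e'⟩ := b.cj 0 c
    rw [csm_mul, ← (tq_inj.1 (e.symm.trans e')).2, ActH.csm_inv_csm]) with t | t
  · exact inv_mul_eq_one.1 t
  · have := congrArg (ip v1) (a.inv.mul b).fix
    rw [t, negOne_smul, ip_neg_right, ip_self, nm_v1] at this
    omega

theorem Ov.eq_tq (a : Ov g 1) : ∃ e c, pol c c0 = 0 ∧ g = tq e c := by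
  obtain ⟨γ, rfl⟩ := exists_act_of_comm a.z
  obtain ⟨e, c, k⟩ := act_mem_QK.2 (eq_of_csm (h := γ.1.2) fun c => by
    obtain ⟨f, e⟩ := a.cj 0 c
    rw [act_conj, csm_one] at e
    exact (tq_inj.1 e).2)
  exact ⟨e, c, tq_HH.1 (k ▸ a.mem), k⟩

theorem ex_Ov (h1 : g ∈ HH) (h2 : zz * g = g * zz) : ∃ h, Ov g h := by
  obtain ⟨γ, rfl⟩ := exists_act_of_comm h2
  have := conj_eq_of_comm (mem_cent.1 h1)
  rw [t0_v1, act_conj, tq_inj, csm_cls] at this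
  rcases (cls_eq_iff_short (by rw [nm_smul, nm_v1]) nm_v1).1 this.2 with k | k
  · exact ⟨_, h1, h2, k, fun e c => ⟨_, act_conj γ e c⟩⟩
  · exact ⟨negOne * γ.1.2, h1, h2, by rw [mul_smul, k, negOne_smul, neg_neg],
      fun e c => ⟨_, by rw [csm_mul, csm_negOne, act_conj]⟩⟩

theorem ex_lift2 (hv : h • v1 = v1) (h0 : c ≠ 0) (h1 : c ≠ c0) (e : ZMod 2) :
    ∃ g, Ov g h ∧ ∀ f, g * tq f c * g⁻¹ = tq (f + e) (csm h c) := by
  obtain ⟨γ, rfl, g1, g2⟩ := exists_lift_two h c0_ne_zero h0 h1.symm 0 e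
  exact ⟨act γ, ⟨mem_cent.2 (FixH.act_comm (by rw [← cls_v1, csm_cls, hv]) g1), zz_comm_act γ, hv,
    fun e c => ⟨_, act_conj γ e c⟩⟩, fun f => g2 ▸ act_conj γ f c⟩

theorem v0_ne : v0 ≠ 0 ∧ v0 ≠ c0 := ⟨ZH.om_ne.1, fun e => ZH.om_ne.2.2 (by rw [show (om, 0) = c0 from e]; exact c0_mem)⟩

theorem ex_lift (hv : h • v1 = v1) : ∃ g, Ov g h := (ex_lift2 hv v0_ne.1 v0_ne.2 0).imp fun _ => And.left

theorem Ov.pol (a : Ov g h) (hc : pol c c0 = 0) : pol (csm h c) c0 = 0 := by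
  rwa [← cls_v1, ← a.fix, ← csm_cls, pol_csm, cls_v1]

/-- The centraliser of `t0, zz, zs`. -/
structure K3 (x : K) : Prop where
  mem : x ∈ HH
  z : Commute zz x
  s : Commute zs x

theorem k3_tq (e : ZMod 2) (h1 : Ev0 c) (h2 : pol c c0 = 0) : K3 (tq e c) :=
  ⟨tq_HH.2 h2, FixH.zz_comm _ _, tq_comm_iff.2 (ev0_iff.1 h1)⟩

theorem K3.mul (a : K3 g) (b : K3 x) : K3 (g * x) := ⟨HH.mul_mem a.mem b.mem, a.z.mul_right b.z, a.s.mul_right b.s⟩

theorem K3.inv (a : K3 g) : K3 g⁻¹ := ⟨HH.inv_mem a.mem, a.z.inv_right, a.s.inv_right⟩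

theorem K3.ev (a : K3 (tq e c)) : Ev0 c := ev0_iff.2 (tq_comm_iff.1 a.s)

theorem ov_sgn (a : K3 x) (hd : En d) (H : ∀ i j, ∃ f, x * tq 0 (clB i j) * x⁻¹ =
    tq f (clB i j + ((wd d i + wd d j) • om, 0))) : Ov x (sgC d) := by
  obtain ⟨h, o⟩ := ex_Ov a.mem a.z
  obtain ⟨f, k⟩ := o.cj 1 v0
  rw [conj_eq_of_comm a.s.symm.eq] at k
  obtain ⟨b, σ, rfl⟩ := exists_mon (mem_Mon_of_csm (tq_inj.1 k).2.symm)
  have H' : ∀ i j, csm (sgC b * perm σ) (clB i j) = clB i j + ((wd d i + wd d j) • om, 0) := fun i j => by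
    obtain ⟨f, k⟩ := H i j
    obtain ⟨f', k'⟩ := o.cj 0 (clB i j)
    exact (tq_inj.1 (k'.symm.trans k)).2
  obtain rfl : σ = 1 := Subtype.ext (Equiv.ext fun i => by
    have p : ∀ j, i ≠ j → σ.1 i = i ∨ σ.1 i = j := fun j hij => by
      have := ((v12_clB i j).csm_mon rfl b σ).2
      rw [H', pm_e2, Prod.snd_add, add_zero] at this
      exact ((sy_e2_eq_iff (σ.1.injective.ne hij) hij).1 this.symm).imp And.left And.left
    obtain ⟨j, k, h1, h2, h3⟩ : ∃ j k : Pt, i ≠ j ∧ i ≠ k ∧ j ≠ k :=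
      (by decide : ∀ i : Pt, ∃ j k : Pt, i ≠ j ∧ i ≠ k ∧ j ≠ k) i
    exact (p j h1).elim id fun a => (p k h2).elim id fun b => absurd (a.symm.trans b) h3)
  rw [map_one, mul_one] at o H'
  have h1 : wd b none = 0 := (z2c _).resolve_right fun q => by
    have := congrArg (fun v : Λ => (v : Vec) none) o.fix
    simp [sgC_apply, q, v1, v44_apply] at this
  have h2 : D0 (b + d) := d0_iff.2 fun i j => by
    have := H' i j
    rw [(v12_clB i j).csm_sgC, add_right_inj, Prod.mk.injEq, clB, sy_dot, e2_dot] at this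
    have := smul_left_injective _ om_ne_zero this.1
    rw [map_add, Pi.add_apply, Pi.add_apply, add_add_add_comm, this, z2_add_self]
  rcases h2 with q | q
  · exact cd_eq_of_add q ▸ o
  · have := congrFun (congrArg wd q) none
    rw [map_add, Pi.add_apply, h1, hd.1, wd_om] at this
    exact absurd this (by decide)

/-- The triality element or its inverse. -/
def Tau (t : K) : Prop := t = tau ∨ t = tau⁻¹

theorem Tau.inv (h : Tau t) : Tau t⁻¹ := h.elim (fun e => Or.inr (e ▸ rfl)) fun e => Or.inl (e ▸ inv_inv _)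

theorem Tau.mem (h : Tau t) : t ∈ HH := h.elim (· ▸ tau_HH) (· ▸ HH.inv_mem tau_HH)

theorem clB_self (i : Pt) : clB i i = 0 := by rw [← FixH.clB_add i i i, ll_add_self]

theorem Tau.comm (h : Tau t) (i j : Pt) : Commute t (tq 0 (clB i j)) := by
  have : Commute tau (tq 0 (clB i j)) := by
    by_cases e : i = j
    · rw [e, clB_self, tq_zero]; exact Commute.one_right _
    · exact FixH.tau_comm e
  exact h.elim (· ▸ this) (· ▸ this.inv_left)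

theorem Tau.zs (h : Tau t) : t * zz * t⁻¹ = zs ∧ t * zs * t⁻¹ = zz * zs ∨ t * zz * t⁻¹ = zz * zs ∧ t * zs * t⁻¹ = zz := by
  rcases h with rfl | rfl
  · exact Or.inl ⟨tau_conj_zz, zz_zs ▸ tau_conj_one⟩
  · exact Or.inr ⟨by rw [zz_zs, ← tau_conj_zero, ZH.cj_inv], by rw [Gr.zs, ← tau_conj_zz, ZH.cj_inv]⟩

theorem Tau.k3 (h : Tau t) (a : K3 x) : K3 (t * x * t⁻¹) := by
  have k : ∀ {y}, Commute (t⁻¹ * y * t⁻¹⁻¹) x → Commute y (t * x * t⁻¹) := fun {y} k => by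
    have := k.map (MulAut.conj t)
    simpa [mul_assoc] using this
  refine ⟨HH.mul_mem (HH.mul_mem h.mem a.mem) h.inv.mem, k ?_, k ?_⟩ <;> rcases h.inv.zs with q | q <;>
    simp only [q.1, q.2]
  exacts [a.s, a.z.mul_left a.s, a.z.mul_left a.s, a.z]

theorem Tau.ov (h : Tau t) (e : ZMod 2) (h1 : Ev0 c) (h2 : pol c c0 = 0) : Ov (t * tq e c * t⁻¹) (sgC (dE c)) := by
  refine ov_sgn (h.k3 (k3_tq e h1 h2)) (en_dE h2) fun i j => ?_
  have : t * tq e c * t⁻¹ * tq 0 (clB i j) * (t * tq e c * t⁻¹)⁻¹ = t * tq (pol c (clB i j)) (clB i j) * t⁻¹ := by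
    rw [← zero_add (pol _ _), ← tq_conj e]
    nth_rewrite 1 [← conj_eq_of_comm (h.comm i j).eq]
    group
  rw [this, wd_dE, wd_dE, add_add_add_comm, z2_add_self, add_zero, ← pol_clB]
  rcases z2c (pol c (clB i j)) with q | q <;> rw [q]
  · exact ⟨0, by rw [conj_eq_of_comm (h.comm i j).eq, zero_smul, Prod.mk_zero_zero, add_zero]⟩
  · rw [← zero_add (1 : ZMod 2), ← zz_mul_tq, conj_mul', conj_eq_of_comm (h.comm i j).eq, zero_add, one_smul, add_comm]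
    rcases h.zs with q | q <;> rw [q.1]
    · exact ⟨_, tq_mul _ _ _ _⟩
    · exact ⟨_, by rw [zz_zs, tq_mul]⟩

theorem ov_one (a : K3 x) (H : ∀ i j, Commute x (tq 0 (clB i j))) : Ov x 1 :=
  sgC_zero ▸ ov_sgn a en_zero fun i j => ⟨0, by
    rw [conj_eq_of_comm (H i j).eq, map_zero, Pi.zero_apply, Pi.zero_apply, add_zero, zero_smul, Prod.mk_zero_zero,
      add_zero]⟩

theorem tt : Tau tau := Or.inl rfl

theorem k3_tau3 : K3 (tau * tau * tau) := ⟨HH.mul_mem (HH.mul_mem tau_HH tau_HH) tau_HH,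
  (mul_inv_eq_iff_eq_mul.1 (by rw [← conj_conj, ← conj_conj, tau_conj_zz, tau_conj_one, tau_conj_zero])).symm,
  (mul_inv_eq_iff_eq_mul.1 (by rw [← conj_conj, ← conj_conj, tau_conj_one, tau_conj_zero, tau_conj_zz])).symm⟩

theorem ov_tau3 : Ov (tau * tau * tau) 1 :=
  ov_one k3_tau3 fun i j => ((tt.comm i j).mul_left (tt.comm i j)).mul_left (tt.comm i j)

theorem t1_eq : t1 = tq 0 (0, sy (e1 (some 0))) := by rw [t1, cls_lam]

theorem pol_l0 : pol (0, sy (e1 (some 0))) c0 = 0 := by rw [pol_c0]; simp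

theorem ov_t1 : Ov t1 1 := t1_eq ▸ ov_tq 0 pol_l0

theorem t1_comm (i j : Pt) : Commute t1 (tq 0 (clB i j)) := by
  rw [t1_eq]; exact tq_comm_iff.2 (by rw [pol_clB]; simp)

theorem t1_conj (e : ZMod 2) : t1 * tq e v0 * t1⁻¹ = tq (e + 1) v0 := by
  rw [t1_eq, tq_conj, pol_comm, pol_om, sy_dot_om, sum_e1]

theorem t1_inv : t1⁻¹ = t1 := DD_inv (tq_cls_mem _ (nm_lam _))

theorem ov_tt : Ov (tau * t1 * tau * t1) 1 := by
  have a := conj_eq_of_comm ov_t1.z.symm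
  refine ov_one ⟨HH.mul_mem (HH.mul_mem (HH.mul_mem tau_HH ov_t1.mem) tau_HH) ov_t1.mem,
    (mul_inv_eq_iff_eq_mul.1 ?_).symm, (mul_inv_eq_iff_eq_mul.1 ?_).symm⟩ fun i j =>
    (((tt.comm i j).mul_left (t1_comm i j)).mul_left (tt.comm i j)).mul_left (t1_comm i j)
  · rw [← conj_conj, ← conj_conj, ← conj_conj, a, tau_conj_zz, t1_conj]; exact tau_conj_zero
  · rw [← conj_conj, ← conj_conj, ← conj_conj, t1_conj, show (1 + 1 : ZMod 2) = 0 from rfl, tau_conj_zero, a,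
      tau_conj_zz]

theorem align (h1 : Ev0 c) (h2 : pol c c0 = 0) : ∃ f c', Ev0 c' ∧ pol c' c0 = 0 ∧ dE c' = dE c ∧
    tau * tq 0 c * tau⁻¹ = tq f c' * (tau⁻¹ * tq 0 c * tau⁻¹⁻¹) := by
  have a := (tt.ov 0 h1 h2).mul (tt.inv.ov 0 h1 h2).inv
  rw [mul_inv_cancel] at a
  obtain ⟨f, c', k1, k2⟩ := a.eq_tq
  have k3 : Ev0 c' := K3.ev (k2 ▸ (tt.k3 (k3_tq 0 h1 h2)).mul (tt.inv.k3 (k3_tq 0 h1 h2)).inv)
  refine ⟨f, c', k3, k1, sgC_injective ((tt.ov f k3 k1).uniq ?_), by rw [← k2, inv_mul_cancel_right]⟩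
  have := ((ov_tau3.mul (tt.inv.ov 0 h1 h2)).mul ov_tau3.inv).mul (ov_tq 0 h2).inv
  rw [inv_one, mul_one, mul_one, one_mul] at this
  convert this using 1
  rw [← k2]; group

theorem ov_SS (x : SS) : Ov x.1 (thU x) :=
  let ⟨a, _, c⟩ := mem_SS.1 x.2
  ⟨mem_cent.2 a, c.symm, (thU x).2.1, thU_spec x⟩

/-- The centraliser of `t0, s0` is generated by its intersection with the centraliser of `zz` and `tau`. -/
theorem gen_L {X : Subgroup K} (hS : SS ≤ X) (ht : tau ∈ X) : centralizer {t0, s0} ≤ X := by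
  let O : K → Prop := fun y => ∃ x ∈ X, x * t0 = t0 * x ∧ x * s0 = s0 * x ∧ x * y3 * x⁻¹ = y
  have cj : ∀ x ∈ X, x * t0 = t0 * x → x * s0 = s0 * x → ∀ y, O y → O (x * y * x⁻¹) := by
    rintro x a b c _ ⟨y, a', b', c', rfl⟩
    exact ⟨x * y, X.mul_mem a a', (Commute.mul_left b b').eq, (Commute.mul_left c c').eq, (conj_conj _ _ _).symm⟩
  have cs : ∀ x ∈ SS, ∀ y, O y → O (x * y * x⁻¹) := fun x hx => cj x (hS hx) (mem_SS.1 hx).1 (mem_SS.1 hx).2.1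
  have o0 : ∀ e, O (tq e (cls x0)) := fun e => by
    have a : tau * y3 * tau⁻¹ = tq 1 (cls x0) := by
      rw [y3, conj_mul', conj_mul', conj_eq_of_comm tau_t0, conj_eq_of_comm tau_s0, tau_conj_zz, t0_mul_s0, tq_mul,
        cls_x0, clB, clC, Prod.mk_add_mk, zero_add, zero_add, add_zero, zero_dotProduct, add_zero]
    have b : O _ := ⟨tau, ht, tau_t0, tau_s0, a⟩
    rcases tq_or e 1 (cls x0) with q | q
    · rwa [q]
    obtain ⟨k1, k2⟩ := col_y3.2 ⟨_, x0, nm_x0, by rw [ip_comm, TriV.ip_v1]; simp [x0, v44_apply, TriV.z01],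
      by rw [ip_comm, TriV.ip_v2]; simp [x0, v44_apply, TriV.z01], a⟩
    obtain ⟨p, p1, p2⟩ := GE.swap0 k1 k2
    have := cs p (InnB.mem_Q0.1 p1).2 _ b
    rwa [← a, p2, a, ← FixH.zz_comm, ← q] at this
  have o1 : ∀ d ∈ NN, lm y3 d = 0 → O d := fun d a b => by
    obtain ⟨e, w, h1, h2, h3, rfl⟩ := col_y3.1 ⟨a, b⟩
    obtain ⟨g, -, g1, g2⟩ := tr891 (X := ⊤) trivial (fun _ _ _ _ _ => trivial) h1 h2 h3
    obtain ⟨x, hx⟩ := thU_surjective ⟨g, g1⟩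
    obtain ⟨f, k⟩ := thU_spec x e (cls w)
    rw [hx, csm_cls, g2] at k
    simpa [← k, mul_assoc] using cs _ (SS.inv_mem x.2) _ (o0 f)
  have o2 : ∀ y, O y → ∀ d ∈ NN, lm y d = 0 → O d := by
    rintro _ ⟨x, a, b, c, rfl⟩ d hd k
    have := cj x a b c _ (o1 (x⁻¹ * d * x⁻¹⁻¹) (conj_mem_NN (Commute.inv_left b).eq (Commute.inv_left c).eq hd) (by
      rw [← k, ← lm_cj x⁻¹ (conj_mem_DD x y3_mem) hd.1.1, ZH.cj_inv]))
    simpa [mul_assoc] using this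
  intro g hg
  obtain ⟨a, b⟩ := GenH.mem_cent2.1 hg
  have := ZH.connR t0_mem s0_mem (NN_eq ▸ y3_mem_NN) (NN_eq ▸ conj_mem_NN a b y3_mem_NN)
  have key : ∀ y, Relation.ReflTransGen (ZH.adjR t0 s0) y3 y → O y := fun y hy => by
    induction hy with
    | refl => exact ⟨1, X.one_mem, by simp, by simp, by simp⟩
    | tail _ k ih =>
      obtain ⟨d, d1, d2, d3⟩ := ZH.F1 t0_mem s0_mem k.1 k.2.1 k.2.2
      exact o2 _ (o2 _ ih d (NN_eq ▸ d1) d2) _ (NN_eq ▸ k.2.1) ((lm_symm _ _).trans d3)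
  obtain ⟨x, x1, x2, x3, x4⟩ := key _ this
  refine (X.mul_mem_cancel_left (X.inv_mem x1)).1 (hS (mem_SS'.2 ⟨((Commute.inv_left x2).mul_left a).eq,
    ((Commute.inv_left x3).mul_left b).eq, mul_inv_eq_iff_eq_mul.1 ?_⟩))
  rw [← conj_conj, ← x4, ZH.cj_inv]

end Cfsg.Agent.Gr.R4
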