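import Mathlib
import Cfsg.Agent.Gr.R4.Grp

/-! Weight spaces of the extraspecial group and the action of the second Conway group on its fixed space. -/

set_option autoImplicit false

namespace Cfsg.Agent.Gr.R4

open Matrix Module Subgroup Cfsg.Agent.Spor Cfsg.Agent.Spor.Leech Cfsg.Agent.Gr.Rk Cfsg.Agent.Gr.Am

variable {F : Type*} [Field F] {U : Type*} [AddCommGroup U] [Module F U]

/-- Joint eigenvectors. -/
def Eig {ι : Type*} (P : ι → Prop) (s : ι → End F U) (χ : ι → ZMod 2) : Submodule F U where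
  carrier := {u | ∀ i, P i → s i u = sg F (χ i) • u}
  add_mem' a b i h := by rw [map_add, a i h, b i h, smul_add]
  zero_mem' i _ := by rw [map_zero, smul_zero]
  smul_mem' c _ a i h := by rw [map_smul, a i h, smul_comm]

/-- The second Conway group. -/
abbrev S1 : Subgroup Co0 := MulAction.stabilizer Co0 v1

/-- Weight spaces of the sign changes in a module for the second Conway group. -/
noncomputable def Yw (T : S1 →* End F U) (χ : Cd → ZMod 2) : Submodule F U :=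
  Eig (fun _ => True) (fun d : {d // En d} => T ⟨sgC d, d.2.v1⟩) fun d => χ d

theorem mem_Yw {T : S1 →* End F U} {χ : Cd → ZMod 2} {u : U} :
    u ∈ Yw T χ ↔ ∀ d (hd : En d), T ⟨sgC d, hd.v1⟩ u = sg F (χ d) • u :=
  ⟨fun h d hd => h ⟨d, hd⟩ trivial, fun h d _ => h d d.2⟩

/-- Weight spaces of `Q ∩ HH`. -/
noncomputable def Wt (r : K → End F U) (μ : LL) : Submodule F U :=
  Eig (fun p : ZMod 2 × LL => pol p.2 c0 = 0) (fun p => r (tq p.1 p.2)) fun p => pol μ p.2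

/-- Weight spaces of the even part of `Q ∩ HH`. -/
noncomputable def Xw (r : K → End F U) (μ : LL) : Submodule F U :=
  Eig (fun p : ZMod 2 × LL => Ev0 p.2 ∧ pol p.2 c0 = 0) (fun p => r (tq p.1 p.2)) fun p => pol μ p.2

variable {r : K → End F U} {g x y : K} {h : Co0} {μ ν : LL} {u : U}

theorem mem_Wt : u ∈ Wt r μ ↔ ∀ e c, pol c c0 = 0 → r (tq e c) u = sg F (pol μ c) • u :=
  ⟨fun h e c k => h (e, c) k, fun h p k => h p.1 p.2 k⟩

theorem mem_Xw : u ∈ Xw r μ ↔ ∀ e c, Ev0 c → pol c c0 = 0 → r (tq e c) u = sg F (pol μ c) • u :=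
  ⟨fun h e c k k' => h (e, c) ⟨k, k'⟩, fun h p k => h p.1 p.2 k.1 k.2⟩

theorem Wt_le_Xw (μ : LL) : Wt r μ ≤ Xw r μ := fun _ h p k => h p k.2

theorem Wt_congr (h : ∀ c, pol c c0 = 0 → pol μ c = pol ν c) : Wt r μ = Wt r ν :=
  Submodule.ext fun _ => forall₂_congr fun p k => by simp only [h p.2 k]

theorem Xw_congr (h : ∀ c, Ev0 c → pol c c0 = 0 → pol μ c = pol ν c) : Xw r μ = Xw r ν :=
  Submodule.ext fun _ => forall₂_congr fun p k => by simp only [h p.2 k.1 k.2]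

theorem Wt_c0 (μ : LL) : Wt r (μ + c0) = Wt r μ := Wt_congr fun c k => by rw [pol_add_left, pol_comm c0, k, add_zero]

theorem Xw_om (μ : LL) (a : ZMod 2) : Xw r (μ + (a • om, 0)) = Xw r μ :=
  Xw_congr fun c k _ => by rw [pol_add_left, pol_T0 k, add_zero]

theorem Xw_z (h : u ∈ Xw r μ) : r zz u = u := by
  have := mem_Xw.1 h 1 0 (ev0_zero 0) (pol_zero_left _)
  rwa [pol_zero_right, sg_zero, one_smul] at this

theorem Y_fix (h : u ∈ Wt r 0) (o : Ov g 1) : r g u = u := by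
  obtain ⟨e, c, k, rfl⟩ := o.eq_tq
  rw [mem_Wt.1 h e c k, pol_zero_left, sg_zero, one_smul]

namespace Rp

variable (R : Rp r)
include R

theorem ap_mul (hg : g ∈ HH) (hx : x ∈ HH) (u : U) : r (g * x) u = r g (r x u) := by rw [R.mul g hg x hx]; rfl

theorem ap_one (u : U) : r 1 u = u := by rw [R.one]; rfl

theorem ap_inv (hg : g ∈ HH) (u : U) : r g⁻¹ (r g u) = u := by
  rw [← R.ap_mul (HH.inv_mem hg) hg, inv_mul_cancel, R.ap_one]

theorem ap_inv' (hg : g ∈ HH) (u : U) : r g (r g⁻¹ u) = u := by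
  rw [← R.ap_mul hg (HH.inv_mem hg), mul_inv_cancel, R.ap_one]

theorem ap_inj (hg : g ∈ HH) : Function.Injective (r g) := fun a b e => by rw [← R.ap_inv hg a, e, R.ap_inv hg]

theorem ap_ne (hg : g ∈ HH) (h : u ≠ 0) : r g u ≠ 0 := fun e => h (R.ap_inj hg (e.trans (map_zero _).symm))

theorem conj (hg : g ∈ HH) (hx : x ∈ HH) (e : g * x * g⁻¹ = y) (u : U) : r y (r g u) = r g (r x u) := by
  rw [← e, ← R.ap_mul (HH.mul_mem (HH.mul_mem hg hx) (HH.inv_mem hg)) hg, inv_mul_cancel_right, R.ap_mul hg hx]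

theorem comm (hg : g ∈ HH) (hx : x ∈ HH) (e : Commute g x) (u : U) : r x (r g u) = r g (r x u) :=
  R.conj hg hx (conj_eq_of_comm e.eq) u

theorem le_of_map [FiniteDimensional F U] (hg : g ∈ HH) {V W : Submodule F U} (h : ∀ u ∈ V, r g u ∈ W) :
    finrank F V ≤ finrank F W :=
  LinearMap.finrank_le_finrank_of_injective (f := (r g).restrict h) fun _ _ e =>
    Subtype.ext (R.ap_inj hg (congrArg Subtype.val e))

/-- The restriction to a subgroup. -/
def hom (A : Subgroup K) (hA : A ≤ HH) : A →* End F U where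
  toFun a := r a
  map_one' := R.one
  map_mul' a b := R.mul _ (hA a.2) _ (hA b.2)

theorem zz_zz (u : U) : r zz (r zz u) = u := by rw [← R.ap_mul z_HH z_HH, zz_mul_self, R.ap_one]

theorem tq_z (hu : r zz u = u) (e f : ZMod 2) {c : LL} (hc : pol c c0 = 0) : r (tq e c) u = r (tq f c) u := by
  rcases tq_or e f c with q | q <;> rw [q]
  rw [FixH.zz_comm, R.ap_mul (tq_HH.2 hc) z_HH, hu]

theorem z_ap (hu : r zz u = u) (hg : g ∈ HH) (e : zz * g = g * zz) : r zz (r g u) = r g u := by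
  rw [R.comm hg z_HH e.symm, hu]

theorem tq_tq (hu : r zz u = u) (e f k : ZMod 2) {a b : LL} (ha : pol a c0 = 0) (hb : pol b c0 = 0) :
    r (tq e a) (r (tq f b) u) = r (tq k (a + b)) u := by
  rw [← R.ap_mul (tq_HH.2 ha) (tq_HH.2 hb), tq_mul, R.tq_z hu _ k (by rw [pol_add_left, ha, hb, add_zero])]

theorem ov_wt (o : Ov g h) (hu : u ∈ Wt r μ) : r g u ∈ Wt r (csm h μ) := mem_Wt.2 fun e c k => by
  obtain ⟨f, q⟩ := o.inv.cj e c
  rw [R.conj o.mem (tq_HH.2 (o.inv.pol k)) (y := tq e c) (by rw [← q]; group), mem_Wt.1 hu _ _ (o.inv.pol k),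
    map_smul, ← pol_csm h, ActH.csm_csm_inv]

theorem ov_xw (o : Ov g h) (hh : h ∈ Mon) (hu : u ∈ Xw r μ) : r g u ∈ Xw r (csm h μ) := mem_Xw.2 fun e c k' k => by
  obtain ⟨f, q⟩ := o.inv.cj e c
  rw [R.conj o.mem (tq_HH.2 (o.inv.pol k)) (y := tq e c) (by rw [← q]; group),
    mem_Xw.1 hu _ _ ((ev0_csm (Mon.inv_mem hh)).2 k') (o.inv.pol k), map_smul, ← pol_csm h, ActH.csm_csm_inv]

theorem ov_Y (o : Ov g h) (hu : u ∈ Wt r 0) : r g u ∈ Wt r 0 := csm_zero h ▸ R.ov_wt o hu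

theorem ov_eq (o : Ov g h) (o' : Ov x h) (hu : u ∈ Wt r 0) : r g u = r x u := by
  rw [← mul_inv_cancel_left x g, R.ap_mul o'.mem (o'.inv.mul o).mem, Y_fix hu (inv_mul_cancel h ▸ o'.inv.mul o)]

/-- The action of the second Conway group on the fixed space of `Q ∩ HH`. -/
noncomputable def Ty : S1 →* End F (Wt r 0) where
  toFun h := (r (ex_lift h.2).choose).restrict fun _ => R.ov_Y (ex_lift h.2).choose_spec
  map_one' := LinearMap.ext fun u => Subtype.ext (Y_fix u.2 (ex_lift (1 : S1).2).choose_spec)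
  map_mul' a b := LinearMap.ext fun u => Subtype.ext <|
    (R.ov_eq (ex_lift (a * b).2).choose_spec ((ex_lift a.2).choose_spec.mul (ex_lift b.2).choose_spec) u.2).trans
      (R.ap_mul (ex_lift a.2).choose_spec.mem (ex_lift b.2).choose_spec.mem _)

theorem Ty_eq (o : Ov g h) (hh : h ∈ S1) (u : Wt r 0) : (R.Ty ⟨h, hh⟩ u : U) = r g u :=
  R.ov_eq (ex_lift hh).choose_spec o u.2

theorem wt_of_t1 (hu : u ∈ Xw r μ) (k : r t1 u = sg F (pol μ (0, sy (e1 (some 0)))) • u) : u ∈ Wt r μ :=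
  mem_Wt.2 fun e c hc => by
    by_cases q : Ev0 c
    · exact mem_Xw.1 hu e c q hc
    have a : pol (c + (0, sy (e1 (some 0)))) c0 = 0 := by rw [pol_add_left, hc, pol_l0, add_zero]
    have := R.tq_tq (Xw_z hu) 0 0 e a pol_l0
    rw [add_assoc, ll_add_self, add_zero, ← t1_eq, k, map_smul,
      mem_Xw.1 hu _ _ (ev0_add_of_not q (not_ev0 _ _)) a, smul_smul, ← sg_add, ← pol_add_right, add_comm,
      add_assoc, ll_add_self, add_zero] at this
    exact this.symm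

/-- An invariant subspace fixed by `zz` is spanned by weight vectors. -/
theorem le_of_wt {W P : Submodule F U} (h1 : ∀ u ∈ W, r zz u = u) (h2 : ∀ c, pol c c0 = 0 → ∀ u ∈ W, r (tq 0 c) u ∈ W)
    (h3 : ∀ μ, ∀ u ∈ W, u ≠ 0 → u ∈ Wt r μ → u ∈ P) : W ≤ P := by
  refine le_of_eig R.two (fun c : {c // pol c c0 = 0} => r (tq 0 c)) (fun c => h2 c c.2) (fun c u hu => ?_)
    (fun a b u hu => ?_) fun u hu h0 χ hχ => ?_
  · rw [R.tq_tq (h1 u hu) 0 0 0 c.2 c.2, ll_add_self, tq_zero, R.ap_one]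
  · rw [R.tq_tq (h1 u hu) 0 0 0 a.2 b.2, R.tq_tq (h1 u hu) 0 0 0 b.2 a.2, add_comm]
  obtain ⟨l, hl⟩ := ActH.exists_pol_one c0_ne_zero 1
  have p : ∀ c, pol (c + pol c c0 • l) c0 = 0 := fun c => by rw [pol_add_left, pol_smul_left, hl, mul_one, z2_add_self]
  obtain ⟨μ, hμ⟩ := exists_pol (AddMonoidHom.mk' (fun c => χ ⟨_, p c⟩) fun a b => eq_of_sg R.two h0 (by
    rw [sg_add, ← smul_smul, ← hχ ⟨_, p b⟩, ← map_smul, ← hχ, ← hχ, R.tq_tq (h1 u hu) 0 0 0 (p b) (p a)]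
    congr 3
    simp only [pol_add_left, add_smul]; abel))
  refine h3 μ u hu h0 (mem_Wt.2 fun e c k => ?_)
  rw [R.tq_z (h1 u hu) e 0 k, hχ ⟨c, k⟩, hμ]
  simp [k]

/-- A joint eigenvector of the even part has a weight. -/
theorem ex_xw (h0 : u ≠ 0) (h1 : r zz u = u) (h2 : ∀ c, Ev0 c → pol c c0 = 0 → ∃ a, r (tq 0 c) u = sg F a • u) :
    ∃ μ, Wt r μ ≠ ⊥ ∧ u ∈ Xw r μ := by
  choose! χ hχ using h2
  by_contra k
  push Not at k
  let W : Submodule F U := Eig (fun p : ZMod 2 × LL => Ev0 p.2 ∧ pol p.2 c0 = 0) (fun p => r (tq p.1 p.2)) fun p => χ p.2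
  have z : ∀ x ∈ W, r zz x = x := fun x hx => by
    have a := hχ 0 (ev0_zero 0) (pol_zero_left _)
    have b : r zz x = sg F (χ 0) • x := hx (1, 0) ⟨ev0_zero 0, pol_zero_left _⟩
    rw [tq_zero, R.ap_one] at a
    rw [b, ← eq_of_sg R.two h0 (a := 0) (b := χ 0) (by rwa [sg_zero, one_smul]), sg_zero, one_smul]
  have m : u ∈ W := fun p q => (R.tq_z h1 _ 0 q.2).trans (hχ p.2 q.1 q.2)
  refine h0 (R.le_of_wt (P := ⊥) z (fun c hc x hx p q => ?_) (fun μ x hx x0 hμ => ?_) m)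
  · change r (tq p.1 p.2) _ = _
    rw [R.tq_tq (z x hx) _ _ 0 q.2 hc, add_comm, ← R.tq_tq (z x hx) 0 p.1 0 hc q.2, hx p q, map_smul]
  · refine (k μ (fun e => x0 (e.le hμ)) fun p q => ?_).elim
    rw [← eq_of_sg R.two x0 ((hx p q).symm.trans (hμ p q.2))]
    exact m p q

end Rp

end Cfsg.Agent.Gr.R4
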