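import Mathlib
import Cfsg.Agent.Gr.R4.Bas

/-! Modules of dimension at most 23 for the second Conway group. -/

set_option autoImplicit false

namespace Cfsg.Agent.Gr.R4

open Module Cfsg.Agent.Spor Cfsg.Agent.Spor.Leech Cfsg.Agent.Gr.Rk Cfsg.Agent.Gr.Am

variable {F : Type*} [Field F] {Y : Type*} [AddCommGroup Y] [Module F Y] {T : S1 →* End F Y}

/-- A sign change as an element of the second Conway group. -/
noncomputable abbrev sE {d : Cd} (h : En d) : S1 := ⟨sgC d, h.v1⟩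

/-- The extra generator. -/
noncomputable abbrev mS : S1 := ⟨mx, mx_v1⟩

/-- The weight space of a point. -/
noncomputable abbrev Ye (T : S1 →* End F Y) (k : Pt) : Submodule F Y := Yw T fun d => wd d k

theorem Yw_ap {χ : Cd → ZMod 2} {u : Y} (hu : u ∈ Yw T χ) {d : Cd} (hd : En d) : T (sE hd) u = sg F (χ d) • u :=
  mem_Yw.1 hu d hd

theorem Yw_congr {χ ψ : Cd → ZMod 2} (h : ∀ d, En d → χ d = ψ d) : Yw T χ = Yw T ψ :=
  Submodule.ext fun _ => by
    rw [mem_Yw, mem_Yw]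
    exact forall₂_congr fun d hd => by rw [h d hd]

theorem wd_pc_inv (σ : M24) (d : Cd) (k : Pt) : wd (pc σ⁻¹ d) k = wd d (σ.1 k) := by rw [wd_pc]; rfl

theorem en_pc_inv {e d : Cd} {σ : M24} (h : (sgC e * perm σ) • v1 = v1) (hd : En d) : En (pc σ⁻¹ d) := by
  constructor <;> rw [wd_pc_inv] <;> rcases mon_v1 h with ⟨a, b⟩ | ⟨a, b⟩
  · rw [a, hd.1]
  · rw [a, hd.2]
  · rw [b, hd.2]
  · rw [b, hd.1]

theorem Yw_mon {g : S1} {e : Cd} {σ : M24} (hg : g.1 = sgC e * perm σ) {χ : Cd → ZMod 2} {u : Y} (hu : u ∈ Yw T χ) :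
    T g u ∈ Yw T fun d => χ (pc σ⁻¹ d) := mem_Yw.2 fun d hd => by
  have k := en_pc_inv (hg ▸ g.2 : (sgC e * perm σ) • v1 = v1) hd
  rw [ap_conj T (g := g) (x := sE k) (y := sE hd) (Subtype.ext (by
    change g.1 * sgC _ * g.1⁻¹ = sgC d
    rw [hg, mon_conj, ← pc_mul, mul_inv_cancel, pc_one])), mem_Yw.1 hu _ k, map_smul]

theorem Ye_mon {g : S1} {e : Cd} {σ : M24} (hg : g.1 = sgC e * perm σ) {k : Pt} {u : Y} (hu : u ∈ Ye T k) :
    T g u ∈ Ye T (σ.1 k) := by simpa only [wd_pc_inv] using Yw_mon hg hu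

theorem perm_eq (σ : M24) : perm σ = sgC 0 * perm σ := by rw [sgC_zero, one_mul]

theorem perm_mem {σ : M24} (h1 : σ.1 none = none) (h2 : σ.1 (some 0) = some 0) : perm σ ∈ S1 := by
  change perm σ • v1 = v1
  rw [v1, perm_v44, h1, h2]

theorem of_perm_mem {σ : M24} (h : perm σ ∈ S1) : σ.1 none = none ∧ σ.1 (some 0) = some 0 := by
  have h' : perm σ • v1 = v1 := h
  refine (mon_v1 (perm_eq σ ▸ h')).resolve_right fun k => ?_
  rw [v1, perm_v44, k.1, k.2] at h'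
  have := congrArg (fun v : Λ => (v : Vec) none) h'
  simp [v44_apply] at this

theorem ex_M22 {k : Pt} (h1 : k ≠ none) (h2 : k ≠ some 0) :
    ∃ σ : M24, σ.1 none = none ∧ σ.1 (some 0) = some 0 ∧ σ.1 (some 1) = k := by
  obtain ⟨g, hg, e⟩ := Golay.exists_Fix_map_list {none, some 0} [some 1] [k] (by simp) (by simp)
    (by simp [p12.symm]) (by simp [h1, h2]) rfl ((Nat.add_le_add_right Finset.card_le_two _).trans (by simp))
  obtain ⟨a, b⟩ := Golay.mem_Fix.1 hg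
  exact ⟨⟨g, a⟩, b _ (by simp), b _ (by simp), by simpa using e⟩

theorem Ye_ne (h : Ye T (some 1) ≠ ⊥) {k : Pt} (h1 : k ≠ none) (h2 : k ≠ some 0) : Ye T k ≠ ⊥ := by
  obtain ⟨σ, a, b, rfl⟩ := ex_M22 h1 h2
  obtain ⟨u, hu, h0⟩ := (Submodule.ne_bot_iff _).1 h
  exact (Submodule.ne_bot_iff _).2 ⟨_, Ye_mon (g := ⟨_, perm_mem a b⟩) (perm_eq σ) hu, ap_ne T _ h0⟩

theorem sE_comm {a b : Cd} (ha : En a) (hb : En b) (u : Y) : T (sE ha) (T (sE hb) u) = T (sE hb) (T (sE ha) u) :=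
  ap_comm T (Subtype.ext (by change sgC b * sgC a = sgC a * sgC b; rw [← sgC_add, ← sgC_add, add_comm])) u

theorem mS_mS (u : Y) : T mS (T mS u) = u := by
  rw [← ap_mul, show mS * mS = 1 from Subtype.ext mx_mul, map_one]; rfl

/-- A weight that occurs and is not the weight of a point. -/
def New (T : S1 →* End F Y) (χ : Cd → ZMod 2) : Prop :=
  Yw T χ ≠ ⊥ ∧ ∀ k, k ≠ none → k ≠ some 0 → ¬ ∀ d, En d → χ d = wd d k

/-- The vectors on which `d` and the sums of two tetrads act by `φ`. -/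
noncomputable def Zd (T : S1 →* End F Y) (d : Cd) (φ : Cd → ZMod 2) : Submodule F Y :=
  Eig (fun c : {c // En c} => c.1 = d ∨ (wd c.1 (some 1) = 0 ∧ wd c.1 (some 2) = 0 ∧ mx * sgC c.1 = sgC c.1 * mx))
    (fun c => T (sE c.2)) fun c => φ c

/-- The characters indexed by the points. -/
noncomputable def Xc (χ ψ : Cd → ZMod 2) (k : Pt) : Cd → ZMod 2 :=
  if k = none then χ else if k = some 0 then ψ else fun d => wd d k

theorem Xc_of {χ ψ : Cd → ZMod 2} {k : Pt} (h1 : k ≠ none) (h2 : k ≠ some 0) : Xc χ ψ k = fun d => wd d k := by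
  rw [Xc, if_neg h1, if_neg h2]

/-- The initial configuration. -/
structure Cf (T : S1 →* End F Y) (e e' : Y) (d : Cd) (hd : En d) : Prop where
  he : e ∈ Ye T (some 1)
  he' : e' ∈ Ye T (some 2)
  d1 : wd d (some 1) = 1
  d2 : wd d (some 2) = 1
  b1 : T (mS * sE hd * mS) e = e'
  b2 : T (mS * sE hd * mS) e' = e
  e0 : e ≠ 0
  p0 : e + e' ≠ 0

section

variable (h2 : (2 : F) ≠ 0)
include h2

theorem Yw_add {χ : Cd → ZMod 2} (h : Yw T χ ≠ ⊥) (a b : Cd) (ha : En a) (hb : En b) : χ (a + b) = χ a + χ b := by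
  obtain ⟨u, hu, h0⟩ := (Submodule.ne_bot_iff _).1 h
  refine eq_of_sg h2 h0 ?_
  rw [← Yw_ap hu (ha.add hb), show sE (ha.add hb) = sE ha * sE hb from Subtype.ext (sgC_add a b), ap_mul,
    mem_Yw.1 hu _ hb, map_smul, mem_Yw.1 hu _ ha, smul_smul, sg_add, mul_comm]

theorem Zd_le {d : Cd} (hd : En d) {φ : Cd → ZMod 2} {P : Submodule F Y}
    (h : ∀ χ, Yw T χ ≠ ⊥ → χ d = φ d → (∀ c, En c → wd c (some 1) = 0 → wd c (some 2) = 0 →
      mx * sgC c = sgC c * mx → χ c = φ c) → Yw T χ ≤ P) : Zd T d φ ≤ P := by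
  classical
  refine le_of_eig h2 (fun c : {c // En c} => T (sE c.2)) (fun c u hu c' hc => ?_) (fun c u _ => ?_)
    (fun a b u _ => sE_comm _ _ u) fun x hx h0 χ hχ => ?_
  · change T (sE c'.2) _ = _
    rw [sE_comm, hu c' hc, map_smul]
  · rw [← ap_mul, show sE c.2 * sE c.2 = 1 from Subtype.ext (sgC_mul_self _), map_one]; rfl
  have m : x ∈ Yw T fun c => if k : En c then χ ⟨c, k⟩ else 0 := mem_Yw.2 fun c k => by rw [dif_pos k]; exact hχ ⟨c, k⟩
  refine h _ (fun e => h0 (e.le m)) ?_ (fun c k a b e => ?_) m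
  · exact eq_of_sg h2 h0 ((mem_Yw.1 m d hd).symm.trans (hx ⟨d, hd⟩ (Or.inl rfl)))
  · exact eq_of_sg h2 h0 ((mem_Yw.1 m c k).symm.trans (hx ⟨c, k⟩ (Or.inr ⟨a, b, e⟩)))

theorem top_le {P : Submodule F Y} (h : ∀ χ, Yw T χ ≠ ⊥ → Yw T χ ≤ P) : P = ⊤ := by
  classical
  refine top_le_iff.1 (le_of_eig h2 (fun c : {c // En c} => T (sE c.2)) (fun _ _ _ => trivial) (fun c u _ => ?_)
    (fun a b u _ => sE_comm _ _ u) fun x _ h0 χ hχ => ?_)
  · rw [← ap_mul, show sE c.2 * sE c.2 = 1 from Subtype.ext (sgC_mul_self _), map_one]; rfl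
  have m : x ∈ Yw T fun c => if k : En c then χ ⟨c, k⟩ else 0 := mem_Yw.2 fun c k => by rw [dif_pos k]; exact hχ ⟨c, k⟩
  exact h _ (fun e => h0 (e.le m)) m

theorem ex_cf (h : Ye T (some 1) ≠ ⊥) : ∃ e e' d hd, Cf T e e' d hd := by
  obtain ⟨e, he, h0⟩ := (Submodule.ne_bot_iff _).1 h
  obtain ⟨d, hd⟩ := ex_code (s := {none, some 0, some 1, some 2}) (t := {some 1, some 2}) (by decide)
    (Finset.card_le_four.trans_lt (by norm_num))
  have en : En d := ⟨(hd _ (by simp)).trans (if_neg (by decide)), (hd _ (by simp)).trans (if_neg (by decide))⟩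
  have d1 : wd d (some 1) = 1 := (hd _ (by simp)).trans (if_pos (by decide))
  have d2 : wd d (some 2) = 1 := (hd _ (by simp)).trans (if_pos (by decide))
  have k := beta_e8 en d1 d2
  obtain ⟨b, σ, hb⟩ := exists_mon (mem_Mon_of_e8 (Or.inl k))
  have he' : T (mS * sE en * mS) e ∈ Ye T (some 2) := (of_mon_e8 (hb ▸ k)).1 ▸ Ye_mon (g := mS * sE en * mS) hb he
  refine ⟨e, _, d, en, he, he', d1, d2, rfl, ?_, h0, fun z => h0 ?_⟩
  · rw [ap_mul, ap_mul, ap_mul, ap_mul, mS_mS, ← ap_mul T (sE en), show sE en * sE en = 1 from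
      Subtype.ext (sgC_mul_self _), map_one, End.one_apply, mS_mS]
  · obtain ⟨c, hc, a, b⟩ := ex_sep (k := some 1) (l := some 2) (by decide) (by decide) (by decide)
    have := congrArg (T (sE hc)) z
    rw [map_add, mem_Yw.1 he c hc, mem_Yw.1 he' c hc, a, b, map_zero, sg_one, sg_zero, one_smul, neg_one_smul] at this
    refine eq_zero_of_neg h2 ?_
    rw [← add_left_inj (T (mS * sE en * mS) e), z, this]

variable [FiniteDimensional F Y]

theorem count (I : Finset Pt) {χ ψ : Cd → ZMod 2} (hχ : New T χ) (hψ : New T ψ)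
    (n : some 0 ∈ I → ¬ ∀ d, En d → χ d = ψ d) : ∑ i ∈ I, finrank F (Yw T (Xc χ ψ i)) ≤ finrank F Y := by
  rw [← finrank_top F Y]
  refine sum_finrank_le I _ (fun c : {c // En c} => T (sE c.2)) (fun i c => sg F (Xc χ ψ i c))
    (fun i _ u hu c => mem_Yw.1 hu _ c.2) (fun i hi j hj e => ?_) fun _ _ => le_top
  have k : ∀ d, En d → Xc χ ψ i d = Xc χ ψ j d := fun d hd => sg_inj h2 (congrFun e ⟨d, hd⟩)
  have k' : ∀ d, En d → Xc χ ψ j d = Xc χ ψ i d := fun d hd => (k d hd).symm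
  by_contra ne
  by_cases a : i = none <;> by_cases b : j = none
  · exact ne (a.trans b.symm)
  · subst a
    by_cases c : j = some 0
    · subst c; exact n hj k
    · exact hχ.2 j b c (by rw [Xc_of b c] at k; exact k)
  · subst b
    by_cases c : i = some 0
    · subst c; exact n hi k'
    · exact hχ.2 i a c (by rw [Xc_of a c] at k'; exact k')
  by_cases a' : i = some 0 <;> by_cases b' : j = some 0
  · exact ne (a'.trans b'.symm)
  · subst a'; exact hψ.2 j b b' (by rw [Xc_of b b'] at k; exact k)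
  · subst b'; exact hψ.2 i a a' (by rw [Xc_of a a'] at k'; exact k')
  · obtain ⟨d, hd, p, q⟩ := ex_sep a a' ne
    have := k d hd
    rw [Xc_of a a', Xc_of b b'] at this
    exact one_ne_zero (p.symm.trans (this.trans q))

end

theorem Xc_ne (h : Ye T (some 1) ≠ ⊥) {χ ψ : Cd → ZMod 2} (hχ : New T χ) (hψ : New T ψ) (i : Pt) :
    Yw T (Xc χ ψ i) ≠ ⊥ := by
  by_cases a : i = none
  · subst a; exact hχ.1
  by_cases b : i = some 0
  · subst b; exact hψ.1
  · rw [Xc_of a b]; exact Ye_ne h a b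

namespace Cf

variable {e e' : Y} {d : Cd} {hd : En d} (c : Cf T e e' d hd)
include c

theorem be : T (sE hd) e = -e := by rw [mem_Yw.1 c.he d hd, c.d1, sg_one, neg_one_smul]

theorem be' : T (sE hd) e' = -e' := by rw [mem_Yw.1 c.he' d hd, c.d2, sg_one, neg_one_smul]

omit c in
theorem bm (u : Y) : T (sE hd) (T mS u) = T mS (T (mS * sE hd * mS) u) := by rw [ap_mul, ap_mul, mS_mS]

theorem dT {a : Cd} (ha : En a) (a1 : wd a (some 1) = 0) (a2 : wd a (some 2) = 0) (k : mx * sgC a = sgC a * mx)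
    (s t : F) : T (sE ha) (T mS (s • e + t • e')) = T mS (s • e + t • e') := by
  rw [ap_comm T (g := mS) (x := sE ha) (Subtype.ext k), map_add (T (sE ha)), map_smul (T (sE ha)),
    map_smul (T (sE ha)), mem_Yw.1 c.he a ha, mem_Yw.1 c.he' a ha, a1, a2, sg_zero, one_smul, one_smul]

theorem y_mem : T mS (e + e') ∈ Zd T d 0 := by
  rintro ⟨a, ha⟩ (rfl | ⟨a1, a2, k⟩)
  · change T (sE ha) _ = sg F 0 • _
    rw [bm, map_add (T _), c.b1, c.b2, sg_zero, one_smul, add_comm]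
  · simpa using c.dT ha a1 a2 k 1 1

theorem u_mem : T mS (e - e') ∈ Zd T d fun a => wd a (some 1) := by
  rintro ⟨a, ha⟩ (rfl | ⟨a1, a2, k⟩)
  · change T (sE ha) _ = sg F (wd a (some 1)) • _
    rw [bm, map_sub (T _), c.b1, c.b2, c.d1, sg_one, neg_one_smul, ← map_neg, neg_sub]
  · change T (sE ha) _ = sg F (wd a (some 1)) • _
    simpa [a1, sub_eq_add_neg] using c.dT ha a1 a2 k 1 (-1)

theorem y_le (h2 : (2 : F) ≠ 0) {P : Submodule F Y} (h : ∀ χ, New T χ → Yw T χ ≤ P) : T mS (e + e') ∈ P := by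
  refine Zd_le h2 hd (fun χ n a b => h χ ⟨n, fun k k1 k2 q => ?_⟩) c.y_mem
  by_cases r : k = some 1 ∨ k = some 2
  · rw [q d hd] at a
    rcases r with rfl | rfl
    exacts [one_ne_zero (c.d1.symm.trans a), one_ne_zero (c.d2.symm.trans a)]
  · obtain ⟨t, ht, t1, t2, tk, tm⟩ := ex_DT (k := k) (by simpa [k1, k2] using r)
    exact one_ne_zero (tk.symm.trans ((q t ht).symm.trans (b t ht t1 t2 tm)))

theorem ex_new (h2 : (2 : F) ≠ 0) : ∃ χ, New T χ := by
  by_contra! k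
  exact ap_ne T mS c.p0 (c.y_le h2 (P := ⊥) fun χ n => absurd n (k χ))

end Cf

theorem fixV [FiniteDimensional F Y] {s : Finset Pt} (h0 : none ∈ s) (h1 : some 0 ∈ s) (hs : s.card ≤ 3)
    (hp : ¬ (Nat.card (Golay.Fix s)).Prime) {V : Submodule F Y} (hV : finrank F V ≤ 1)
    (inv : ∀ (σ : M24) (k : perm σ ∈ S1), σ.1 ∈ Golay.Fix s → ∀ u ∈ V, T ⟨_, k⟩ u ∈ V) {u : Y} (hu : u ∈ V)
    {σ : M24} (k : perm σ ∈ S1) (hσ : σ.1 ∈ Golay.Fix s) : T ⟨_, k⟩ u = u := by
  by_cases u0 : u = 0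
  · rw [u0, map_zero]
  have := Golay.simple_Fix hs
  have le : Golay.Fix s ≤ M24 := fun g hg => (Golay.mem_Fix.1 hg).1
  let ι : Golay.Fix s →* S1 := (perm.comp (Subgroup.inclusion le)).codRestrict S1 fun g =>
    perm_mem ((Golay.mem_Fix.1 g.2).2 _ h0) ((Golay.mem_Fix.1 g.2).2 _ h1)
  exact fix_of_simple (T.comp ι) hp (MonoidHom.id _) Function.surjective_id
    (fun g e => by rw [show g = 1 from e, map_one]; rfl)
    (fun g => ex_smul hV hu u0 (inv ⟨g.1, le g.2⟩ (ι g).2 g.2 u hu)) ⟨σ.1, hσ⟩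

variable [FiniteDimensional F Y] (h2 : (2 : F) ≠ 0) (h : Yw T (fun d => wd d (some 1)) ≠ ⊥)
include h2 h

theorem Y_ge : 23 ≤ finrank F Y := by
  obtain ⟨e, e', d, hd, c⟩ := ex_cf h2 h
  obtain ⟨χ, n⟩ := c.ex_new h2
  refine le_trans ?_ (count h2 (Finset.univ.erase (some 0)) n n (by simp))
  refine le_trans ?_ (Finset.sum_le_sum fun i _ => one_le_finrank (Xc_ne h n n i))
  simp

theorem new_zero (hd : finrank F Y ≤ 23) {χ : Cd → ZMod 2} (n : New T χ) : ∀ d, En d → χ d = 0 := by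
  have m : perm m11⁻¹ ∈ S1 := by rw [map_inv]; exact S1.inv_mem (perm_mem rfl (by decide))
  have n' : New T fun d => χ (pc m11 d) := by
    obtain ⟨u, hu, h0⟩ := (Submodule.ne_bot_iff _).1 n.1
    refine ⟨(Submodule.ne_bot_iff _).2 ⟨_, Yw_mon (g := ⟨_, m⟩) (perm_eq _) hu, ap_ne T _ h0⟩, fun k k1 k2 q => ?_⟩
    refine n.2 (m11.1 k) (fun e => k1 (m11.1.injective e)) (fun e => k2 (m11.1.injective (e.trans (by decide))))
      fun d hd => ?_
    have := q _ (en_pc_inv (perm_eq m11 ▸ perm_mem rfl (by decide)) hd)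
    simp only at this
    rw [← wd_pc_inv, ← this, ← pc_mul, mul_inv_cancel, pc_one]
  refine fix11 χ (Yw_add h2 n.1) ?_
  by_contra k
  have := (Finset.sum_le_sum fun i _ => one_le_finrank (Xc_ne h n' n i)).trans (count h2 Finset.univ n' n fun _ => k)
  simp at this
  omega

theorem rank_le (hd : finrank F Y ≤ 23) {χ : Cd → ZMod 2} (n : New T χ) {k : Pt} (hk : k ≠ some 0) :
    finrank F (Yw T (Xc χ χ k)) ≤ 1 := by
  have a := count h2 (Finset.univ.erase (some 0)) n n (by simp)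
  rw [← Finset.add_sum_erase _ _ (Finset.mem_erase.2 ⟨hk, Finset.mem_univ k⟩)] at a
  have b := Finset.sum_le_sum (s := (Finset.univ.erase (some 0)).erase k) fun i _ => one_le_finrank (Xc_ne h n n i)
  rw [Finset.sum_const, Finset.card_erase_of_mem (Finset.mem_erase.2 ⟨hk, Finset.mem_univ k⟩),
    Finset.card_erase_of_mem (Finset.mem_univ _)] at b
  simp only [Finset.card_univ, Fintype.card_option, ZMod.card, smul_eq_mul] at b
  have := (Nat.add_le_add_left b _).trans (a.trans hd)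
  omega

theorem Y_main (hd : finrank F Y ≤ 23) : finrank F (Yw T 0) ≤ 1 ∧
    (∀ P : Submodule F Y, Yw T 0 ≤ P → (∀ k, k ≠ none → k ≠ some 0 → Yw T (fun d => wd d k) ≤ P) → P = ⊤) ∧
    ∃ e ∈ Yw T (fun d => wd d (some 1)), ∃ y ∈ Yw T 0, y ≠ 0 ∧ (∀ g : S1, g.1 • v2 = v2 → T g (e + y) = e + y) ∧
      (∃ g : S1, g.1 • v2 = v1 - v2 ∧ T g (e + y) = -(e + y)) ∧
      ∀ (σ : M24) (hσ : perm σ ∈ S1), T ⟨perm σ, hσ⟩ y = y := by
  obtain ⟨e, e', d, en, c⟩ := ex_cf h2 h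
  obtain ⟨χ, n⟩ := c.ex_new h2
  have nz : ∀ χ, New T χ → Yw T χ = Yw T 0 := fun χ n => Yw_congr (new_zero h2 h hd n)
  have r0 : finrank F (Yw T 0) ≤ 1 := nz χ n ▸ rank_le h2 h hd n (k := none) p01
  have r1 : finrank F (Ye T (some 1)) ≤ 1 := rank_le h2 h hd n (k := some 1) p12.symm
  have r2 : finrank F (Ye T (some 2)) ≤ 1 := rank_le h2 h hd n (k := some 2) (by decide)
  have cases : ∀ χ, Yw T χ ≠ ⊥ → New T χ ∨ ∃ k, k ≠ none ∧ k ≠ some 0 ∧ ∀ d, En d → χ d = wd d k := fun χ a => by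
    by_contra! q
    exact q.1 ⟨a, fun k k1 k2 r => by obtain ⟨d, hd, n⟩ := q.2 k k1 k2; exact n (r d hd)⟩
  obtain ⟨y, hy⟩ : ∃ y, T mS (e + e') = y := ⟨_, rfl⟩
  have y0 : y ≠ 0 := hy ▸ ap_ne T mS c.p0
  have ym : y ∈ Yw T 0 := hy ▸ c.y_le h2 fun χ n => (nz χ n).le
  have my : T mS y = e + e' := by rw [← hy, mS_mS]
  have sy : ∀ a (ha : En a), T (sE ha) y = y := fun a ha => by rw [mem_Yw.1 ym a ha, Pi.zero_apply, sg_zero, one_smul]
  have py : ∀ (σ : M24) (hσ : perm σ ∈ S1), T ⟨perm σ, hσ⟩ y = y := fun σ hσ =>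
    fixV (s := {none, some 0}) (by simp) (by simp) (Finset.card_le_two.trans (by norm_num))
      (by rw [Golay.card_Fix_two (by decide)]; norm_num) r0
      (fun σ k _ u hu => Yw_mon (g := ⟨_, k⟩) (perm_eq σ) hu) ym hσ
      (Golay.mem_Fix.2 ⟨σ.2, by simpa using of_perm_mem hσ⟩)
  have pe : ∀ (σ : M24) (hσ : perm σ ∈ S1), σ.1 ∈ Golay.Fix {none, some 0, some 1} → T ⟨perm σ, hσ⟩ e = e :=
    fun σ hσ k => fixV (s := {none, some 0, some 1}) (by simp) (by simp) Finset.card_le_three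
      (by rw [Golay.card_Fix_three (by decide)]; norm_num) r1
      (fun σ k q u hu => (Golay.mem_Fix.1 q).2 (some 1) (by simp) ▸ Ye_mon (g := ⟨_, k⟩) (perm_eq σ) hu) c.he hσ k
  have e0' : e' ≠ 0 := c.b1 ▸ ap_ne T _ c.e0
  have mu : T mS (e - e') = e - e' := by
    have m : T mS (e - e') ∈ Ye T (some 1) ⊔ Ye T (some 2) := Zd_le h2 en (fun χ a p q => by
      rcases cases χ a with n | ⟨k, k1, k2, r⟩
      · exact absurd ((new_zero h2 h hd n d en).symm.trans (p.trans c.d1)) zero_ne_one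
      rw [Yw_congr r]
      by_cases t : k = some 1 ∨ k = some 2
      · rcases t with rfl | rfl
        exacts [le_sup_left, le_sup_right]
      · obtain ⟨t, ht, t1, t2, tk, tm⟩ := ex_DT (k := k) (by simpa [k1, k2] using t)
        exact absurd (tk.symm.trans ((r t ht).symm.trans ((q t ht t1 t2 tm).trans t1))) one_ne_zero) c.u_mem
    obtain ⟨p, hp, q, hq, k⟩ := Submodule.mem_sup.1 m
    obtain ⟨a, rfl⟩ := ex_smul r1 c.he c.e0 hp
    obtain ⟨b, rfl⟩ := ex_smul r2 c.he' e0' hq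
    have k1 : T (mS * sE en * mS) (T mS (e - e')) = -T mS (e - e') := by
      rw [ap_mul, ap_mul, mS_mS, map_sub (T (sE en)), c.be, c.be', ← map_neg]; congr 1; abel
    rw [← k, map_add, map_smul, map_smul, c.b1, c.b2] at k1
    have k2 : (a + b) • (e + e') = 0 := by
      rw [← sub_eq_zero] at k1
      rw [← k1]; module
    have k3 : T mS (e - e') = a • (e - e') := by
      rw [← k, eq_neg_of_add_eq_zero_right ((smul_eq_zero.1 k2).resolve_right c.p0)]; module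
    obtain ⟨t, ht, t1, t2⟩ := ex_sep (k := some 1) (l := some 2) (by decide) (by decide) (by decide)
    obtain ⟨f, σ, hf, s1, s2, q⟩ := mon_fix (sE ht * mS * sE ht * mS * sE ht * mS).2 (braid ht t1 t2)
    have k4 : T (sE ht * mS * sE ht * mS * sE ht * mS) y = y := by
      rw [show sE ht * mS * sE ht * mS * sE ht * mS = sE hf * ⟨_, perm_mem s1 s2⟩ from Subtype.ext q, ap_mul, py, sy]
    have te : T (sE ht) e = -e := by rw [mem_Yw.1 c.he t ht, t1, sg_one, neg_one_smul]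
    have te' : T (sE ht) e' = e' := by rw [mem_Yw.1 c.he' t ht, t2, sg_zero, one_smul]
    have t3 : T (sE ht) (e + e') = -(e - e') := by rw [map_add, te, te']; abel
    have t4 : T (sE ht) (e - e') = -(e + e') := by rw [map_sub, te, te']; abel
    simp only [ap_mul, my, t3, map_neg, k3, map_smul, t4, hy, sy, smul_neg, neg_neg] at k4
    have : a = 1 := smul_left_injective F y0 (k4.trans (one_smul F y).symm)
    rw [k3, this, one_smul]
  have mw : T mS ((2 : F) • e + y) = (2 : F) • e + y := by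
    rw [show (2 : F) • e + y = e + e' + (e - e') + y by module, map_add, map_add, hy, mu, my]; abel
  have mw' : T mS ((2 : F) • e' + y) = (2 : F) • e' + y := by
    rw [show (2 : F) • e' + y = e + e' - (e - e') + y by module, map_add, map_sub, hy, mu, my]; abel
  have fx : ∀ g : S1, g.1 • v2 = v2 → T g ((2 : F) • e + y) = (2 : F) • e + y := fun g hg => by
    obtain ⟨g', k, q⟩ := gen_UU (X := (Fx T ((2 : F) • e + y)).map S1.subtype) ⟨mS, mw, rfl⟩ (fun a σ ha a1 hσ => by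
      have s := (Golay.mem_Fix.1 hσ).2
      refine ⟨sE ha * ⟨_, perm_mem (s _ (by simp)) (s _ (by simp))⟩, ?_, rfl⟩
      change T _ _ = _
      rw [ap_mul, map_add, map_smul, pe σ _ hσ, py, map_add, map_smul, sy, mem_Yw.1 c.he a ha, a1, sg_zero, one_smul])
      (LC.mem_St2.2 ⟨g.2, hg⟩ : g.1 ∈ UU)
    exact (Subtype.ext q : g' = g) ▸ k
  refine ⟨r0, fun P p q => top_le (T := T) h2 fun χ a => ?_, (2 : F) • e, Submodule.smul_mem _ _ c.he, y, ym, y0, fx,
    ?_, py⟩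
  · rcases cases χ a with n | ⟨k, k1, k2, r⟩
    · exact (nz χ n).le.trans p
    · exact (Yw_congr r).le.trans (q k k1 k2)
  obtain ⟨σ, s1, s2, s3⟩ := ex_M22 (k := some 2) (by decide) (by decide)
  obtain ⟨γ, hγ⟩ : ∃ γ : S1, γ = ⟨_, perm_mem s1 s2⟩ := ⟨_, rfl⟩
  have gv : γ.1 • v2 = v44 (some 2) (some 0) 1 (-1) := by rw [hγ, v2]; exact (perm_v44 _ _ _ _ _).trans (by rw [s2, s3])
  obtain ⟨a, ha⟩ := ex_smul r2 c.he' e0' (s3 ▸ Ye_mon (g := γ) (by rw [hγ]; exact perm_eq σ) c.he)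
  have gy : T γ y = y := hγ ▸ py σ _
  have k1 := congrArg (T γ) (fx (γ⁻¹ * mS * γ) (by
    change (γ.1⁻¹ * mx * γ.1) • v2 = v2
    rw [mul_smul, mul_smul, gv, mx_v44 (by simp) (by simp) (by decide), ← gv, inv_smul_smul]))
  rw [ap_mul, ap_mul, ap_inv', map_add (T γ), map_smul, ha, gy] at k1
  have a1 : a = 1 := by
    by_contra ne
    have k2 : ((2 : F) * (a - 1)) • T mS e' = ((2 : F) * (a - 1)) • e' := by
      simp only [map_add, map_smul] at k1 mw'
      rw [← sub_eq_zero] at k1 mw' ⊢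
      rw [← sub_self (0 : Y)]
      nth_rewrite 1 [← k1]
      rw [← mw']; module
    have k3 : T mS e' = e' := smul_right_injective Y (mul_ne_zero h2 (sub_ne_zero.2 ne)) k2
    have k4 : T mS e = e := by rwa [map_sub, k3, sub_left_inj] at mu
    have k5 : y = e + e' := by rw [← hy, map_add, k3, k4]
    have k6 := sy d en
    rw [k5, map_add, c.be, c.be', ← neg_add] at k6
    exact c.p0 (eq_zero_of_neg h2 k6.symm)
  refine ⟨γ⁻¹ * (sE en * (mS * sE en * mS)), ?_, ?_⟩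
  · change (γ.1⁻¹ * (sgC d * (mx * sgC d * mx))) • v2 = v1 - v2
    rw [mul_smul, beta_v2 en c.d1 c.d2, ← gv, smul_sub, inv_smul_smul, show γ.1⁻¹ • v1 = v1 from γ⁻¹.2]
  · have by' : T (mS * sE en * mS) y = -y := by
      rw [ap_mul, ap_mul, my, map_add (T (sE en)), c.be, c.be', ← neg_add, map_neg, hy]
    refine ap_inj T γ ?_
    rw [ap_mul, ap_inv', ap_mul, map_add, map_smul, c.b1, by', map_add, map_smul, map_neg, c.be', sy, map_neg,
      map_add, map_smul, ha, gy, a1]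
    module

end Cfsg.Agent.Gr.R4
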