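import Mathlib
import Cfsg.Agent.Gr.R4.Bas

/-! The weights of the extraspecial group in a representation of degree at most 4371. -/

set_option autoImplicit false

namespace Cfsg.Agent.Gr.R4

open Matrix Finset Module Cfsg.Agent.Spor Cfsg.Agent.Spor.Leech Cfsg.Agent.Gr.Rk Cfsg.Agent.Gr.Am

variable {F : Type*} [Field F] {U : Type*} [AddCommGroup U] [Module F U] {r : K → End F U} {μ ν : LL} {u : U}
  {a b : ZMod 2} {d : Cd} {g : K} {h : Co0}

/-- The elementary abelian group generated by `zz, zs` and the involutions above pairs. -/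
noncomputable def opV : Bool ⊕ Pt × Pt → K
  | .inl false => zz
  | .inl true => zs
  | .inr p => tq 0 (clB p.1 p.2)

def chV (a b : ZMod 2) (d : Cd) : Bool ⊕ Pt × Pt → ZMod 2
  | .inl false => a
  | .inl true => b
  | .inr p => wd d p.1 + wd d p.2

/-- Its weight spaces. -/
noncomputable def Vd (r : K → End F U) (a b : ZMod 2) (d : Cd) : Submodule F U :=
  Eig (fun _ => True) (fun i => r (opV i)) (chV a b d)

theorem mem_Vd : u ∈ Vd r a b d ↔ r zz u = sg F a • u ∧ r zs u = sg F b • u ∧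
    ∀ i j, r (tq 0 (clB i j)) u = sg F (wd d i + wd d j) • u :=
  ⟨fun h => ⟨h (.inl false) trivial, h (.inl true) trivial, fun i j => h (.inr (i, j)) trivial⟩, fun h i _ =>
    match i with
    | .inl false => h.1
    | .inl true => h.2.1
    | .inr p => h.2.2 p.1 p.2⟩

/-- Eigenspaces of `zz`. -/
noncomputable def Eg (r : K → End F U) (a : ZMod 2) : Submodule F U := Eig (fun _ : Unit => True) (fun _ => r zz) fun _ => a

theorem mem_Eg : u ∈ Eg r a ↔ r zz u = sg F a • u := ⟨fun h => h () trivial, fun h _ _ => h⟩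

theorem odd_iff : ¬ Ev0 μ ↔ pol μ v0 = 1 := by
  rw [ev0_iff, pol_comm]; rcases z2c (pol μ v0) with e | e <;> simp [e]

theorem wt_le_vd (h : ¬ Ev0 μ) : Wt r μ ≤ Vd r 0 1 μ.1 := fun u hu => mem_Vd.2
  ⟨by rw [Xw_z (Wt_le_Xw _ hu), sg_zero, one_smul], by rw [mem_Wt.1 hu _ _ pol_v0_c0, odd_iff.1 h],
    fun i j => by rw [mem_Wt.1 hu _ _ (pol_BB _ _ _ _), pol_clB]⟩

theorem pol_sgC_B (d : Cd) (h : ¬ Ev0 μ) (i j : Pt) :
    pol (csm (sgC d) μ) (clB i j) = pol μ (clB i j) + (wd d i + wd d j) := by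
  rw [← pol_csm (sgC d), ← csm_mul, sgC_mul_self, csm_one, (v12_clB i j).csm_sgC, pol_add_right, clB, sy_dot, e2_dot,
    show ((wd d i + wd d j) • om, (0 : Cd)) = (wd d i + wd d j) • v0 by simp, pol_comm μ (_ • _), pol_smul_left,
    pol_comm v0, odd_iff.1 h, mul_one]

theorem m11_zero : m11.1 (some 0) = some 0 := by decide

theorem m11_none : m11.1 none = none := rfl

theorem m11_v1 : perm m11 • v1 = v1 := by rw [v1, perm_v44, m11_zero, m11_none]

theorem m11_lam : csm (perm m11) (0, sy (e1 none)) = (0, sy (e1 none)) := by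
  rw [← cls_lam, csm_cls, lam, perm_odd1, m11_none]

theorem v12_odd (h1 : ¬ Ev0 μ) (h3 : D0 μ.1) : V12 (μ + (0, sy (e1 none))) :=
  ⟨by rw [Prod.fst_add, add_zero]; exact h3, ev0_add_of_not h1 (not_ev0 _ _)⟩

theorem m11_d0 (h1 : ¬ Ev0 μ) (h3 : D0 μ.1) : D0 (csm (perm m11) μ).1 := by
  have w' := (v12_csm (perm_mem_Mon m11) (v12_odd h1 h3)).1
  rwa [csm_add, m11_lam, Prod.fst_add, add_zero] at w'

theorem c0_dot (h : En d) : c0.2 ⬝ᵥ d = 0 := by rw [c0, clB, sy_dot, e2_dot, h.1, h.2, add_zero]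

theorem snd_dot (h1 : ¬ Ev0 μ) (h3 : D0 μ.1) (e : csm (perm m11) μ + μ = 0 ∨ csm (perm m11) μ + μ = c0) (d : Cd)
    (hd : En d) : (μ + (0, sy (e1 none))).2 ⬝ᵥ d = 0 := by
  have k : ∀ d, En d → (μ + (0, sy (e1 none))).2 ⬝ᵥ pc m11 d = (μ + (0, sy (e1 none))).2 ⬝ᵥ d := fun d hd => by
    have a := snd_csm (v12_odd h1 h3) 0 m11 d
    have b := c0_dot (hd.pc (σ := m11) (Or.inl ⟨m11_none, m11_zero⟩))
    rw [sgC_zero, one_mul, csm_add, m11_lam] at a
    rcases e with e | e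
    · rw [ll_eq_of_add e] at a; exact a
    · have f : csm (perm m11) μ = c0 + μ := by rw [← e, add_assoc, ll_add_self, add_zero]
      rw [f, add_assoc, Prod.snd_add c0, add_dotProduct, b, zero_add] at a; exact a
  generalize (μ + (0, sy (e1 none))).2 = φ at k ⊢
  exact fix11 (fun d => φ ⬝ᵥ d) (fun _ _ _ _ => dotProduct_add _ _ _) k d hd

theorem snd_of_fix (h1 : ¬ Ev0 μ) (h3 : D0 μ.1) (e : csm (perm m11) μ + μ = 0 ∨ csm (perm m11) μ + μ = c0) :
    μ.2 = sy (e1 none) ∨ μ.2 = sy (e1 (some 0)) := by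
  have z := snd_dot h1 h3 e
  have w := (v12_odd h1 h3).2
  rw [Prod.snd_add] at z w
  have p : ∀ (x : LL) (φ : Cd), pol x (0, φ) = φ ⬝ᵥ x.1 := fun x φ => by rw [pol, dotProduct_zero, zero_add]
  have := mem_span_of_pol (a := (0, sy (e1 none))) (b := (0, sy (e1 (some 0))))
    (c := (0, μ.2 + sy (e1 none))) fun x a b => by
      rw [p, sy_dot, e1_dot] at a b
      rw [p]
      exact z _ ⟨a, b⟩
  have o : ∀ i, μ.2 + sy (e1 none) ≠ sy (e1 i) := fun i e => not_ev0 0 i (by rw [Ev0, ← e]; exact w)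
  rcases this with q | q | q | q
  · exact Or.inl (cd_eq_of_add (Prod.mk.inj q).2)
  · exact (o _ (Prod.mk.inj q).2).elim
  · exact (o _ (Prod.mk.inj q).2).elim
  · rw [Prod.mk_add_mk, add_comm (sy (e1 none))] at q
    exact Or.inr (add_right_cancel (Prod.mk.inj q).2)

namespace Rp

variable (R : Rp r)
include R

theorem eg_tau (h1 : r zz u = sg F a • u) (h2 : r zs u = sg F b • u) :
    r zz (r tau u) = sg F (a + b) • r tau u ∧ r zs (r tau u) = sg F a • r tau u :=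
  ⟨by rw [R.conj tau_HH (tq_HH.2 pol_v0_c0) tau_conj_zero, ← zz_zs, R.ap_mul z_HH zs_HH, h2, map_smul, h1, smul_smul,
    map_smul, ← sg_add, add_comm], by rw [R.conj tau_HH z_HH tau_conj_zz, h1, map_smul]⟩

theorem vd_tau (h : u ∈ Vd r a b d) : r tau u ∈ Vd r (a + b) a d :=
  let ⟨h1, h2, h3⟩ := mem_Vd.1 h
  mem_Vd.2 ⟨(R.eg_tau h1 h2).1, (R.eg_tau h1 h2).2, fun i j => by
    rw [R.comm tau_HH (tB_HH _ _ _) (tt.comm i j), h3, map_smul]⟩

theorem vd_q (h : u ∈ Vd r 1 b d) {e : Cd} (he : pol (e, 0) c0 = 0) : r (tq 0 (e, 0)) u ∈ Vd r 1 b (d + e) := by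
  obtain ⟨h1, h2, h3⟩ := mem_Vd.1 h
  have k := k3_tq 0 (ev0_zero e) he
  refine mem_Vd.2 ⟨by rw [R.comm k.mem z_HH k.z.symm, h1, map_smul], by rw [R.comm k.mem zs_HH k.s.symm, h2, map_smul],
    fun i j => ?_⟩
  rw [R.conj k.mem (tB_HH (pol (e, 0) (clB i j)) i j) (by rw [tq_conj, z2_add_self]), ← map_smul, map_add,
    Pi.add_apply, Pi.add_apply, add_add_add_comm, sg_add, ← pol_clB (e, 0)]
  rcases z2c (pol (e, 0) (clB i j)) with q | q <;> rw [q]
  · rw [h3, sg_zero, mul_one]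
  · rw [← zero_add (1 : ZMod 2), ← zz_mul_tq, R.ap_mul z_HH (tB_HH _ _ _), h3, map_smul, h1, smul_smul, zero_add]

theorem wt_pol (h : Wt r μ ≠ ⊥) : pol μ c0 = 0 := by
  obtain ⟨u, hu, h0⟩ := Submodule.exists_mem_ne_zero_of_ne_bot h
  refine eq_of_sg R.two h0 ?_
  rw [← mem_Wt.1 hu 0 c0 (pol_self _), sg_zero, one_smul, ← t0, R.t]; rfl

theorem wt_map (o : Ov g h) (k : Wt r μ ≠ ⊥) : Wt r (csm h μ) ≠ ⊥ := fun e =>
  let ⟨_, hu, h0⟩ := Submodule.exists_mem_ne_zero_of_ne_bot k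
  R.ap_ne o.mem h0 (e.le (R.ov_wt o hu))

theorem wt_map' (hv : h • v1 = v1) (k : Wt r μ ≠ ⊥) : Wt r (csm h μ) ≠ ⊥ := R.wt_map (ex_lift hv).choose_spec k

theorem ex_odd_wt : ∃ μ, ¬ Ev0 μ ∧ Wt r μ ≠ ⊥ := by
  have k1 : ∃ u, u ≠ 0 ∧ r zz u = sg F 0 • u ∧ r zs u = sg F 1 • u := by
    obtain ⟨x, hx⟩ := DFunLike.ne_iff.1 R.ne
    have z : r zz (x - r zz x) = sg F 1 • (x - r zz x) := by rw [map_sub, R.zz_zz, sg_one, neg_one_smul, neg_sub]
    by_contra k
    push Not at k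
    have := le_of_eig R.two (fun _ : Unit => r zs) (W := Eg r 1) (P := ⊥) (fun _ u hu => mem_Eg.2 (by
      rw [R.comm zs_HH z_HH (FixH.zz_comm _ _).symm, mem_Eg.1 hu, map_smul])) (fun _ u _ => by
        rw [← R.ap_mul zs_HH zs_HH, tq_mul_self, show qL (om, 0) = 0 from zero_dotProduct _, tq_zero, R.ap_one])
      (fun _ _ _ _ => rfl) (fun u hu h0 χ hχ => by
        have a := R.eg_tau (mem_Eg.1 hu) (hχ ())
        rcases z2c (χ ()) with q | q <;> rw [q] at a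
        · have b := R.eg_tau a.1 a.2
          exact (k _ (R.ap_ne tau_HH (R.ap_ne tau_HH h0)) b.1 b.2).elim
        · exact (k _ (R.ap_ne tau_HH h0) a.1 a.2).elim) (mem_Eg.2 z)
    exact hx (sub_eq_zero.1 this).symm
  obtain ⟨x, x0, x1, x2⟩ := k1
  by_contra k
  push Not at k
  refine x0 (R.le_of_wt (W := Eg r 0 ⊓ Eig (fun _ : Unit => True) (fun _ => r zs) fun _ => 1) (P := ⊥)
    (fun u hu => by rw [mem_Eg.1 hu.1, sg_zero, one_smul]) (fun c hc u hu => ?_) (fun μ u hu h0 hμ => ?_)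
    ⟨mem_Eg.2 x1, fun _ _ => x2⟩)
  · have z : r zz u = u := by rw [mem_Eg.1 hu.1, sg_zero, one_smul]
    refine ⟨mem_Eg.2 (by rw [R.z_ap z (tq_HH.2 hc) (FixH.zz_comm _ _), sg_zero, one_smul]), fun _ _ => ?_⟩
    change r zs _ = _
    rw [R.tq_tq z _ _ 0 pol_v0_c0 hc, add_comm, ← R.tq_tq z 0 1 0 hc pol_v0_c0, hu.2 () trivial, map_smul]
  · exact (k μ (odd_iff.2 (eq_of_sg R.two h0 ((mem_Wt.1 hμ _ _ pol_v0_c0).symm.trans (hu.2 () trivial))))).le hμ

variable [FiniteDimensional F U]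

theorem vd_le {e : Cd} (he : wd e none + wd e (some 0) = 0) (hd : En d) :
    finrank F (Vd r 0 1 e) ≤ finrank F (Vd r 1 0 d) ∧ finrank F (Vd r 0 1 e) ≤ finrank F (Vd r 1 1 d) ∧
      finrank F (Vd r 0 1 e) ≤ finrank F (Vd r 0 1 d) := by
  have k : pol (e + d, 0) c0 = 0 := by
    rw [pol_c0, map_add, Pi.add_apply, Pi.add_apply, hd.1, hd.2, add_zero, add_zero, he]
  have a : finrank F (Vd r 0 1 e) ≤ finrank F (Vd r 1 0 d) := (R.le_of_map tau_HH fun _ => R.vd_tau).trans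
    (R.le_of_map (tq_HH.2 k) fun u hu => by simpa [← add_assoc, cd_add_self] using R.vd_q hu k)
  have b := a.trans (R.le_of_map tau_HH fun _ => R.vd_tau)
  exact ⟨a, b, b.trans (R.le_of_map tau_HH fun _ => R.vd_tau)⟩

theorem vd_sum (S : Finset (ZMod 2 × ZMod 2)) {W : Submodule F U} (h : ∀ p ∈ S, ∀ d, Vd r p.1 p.2 d ≤ W) {n : ℕ}
    (hn : ∀ p ∈ S, ∀ d, En d → n ≤ finrank F (Vd r p.1 p.2 d)) : S.card * 1024 * n ≤ finrank F W := by
  classical
  have := sum_finrank_le (S ×ˢ univ.filter En) (fun p => Vd r p.1.1 p.1.2 p.2) (fun i => r (opV i))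
    (fun p i => sg F (chV p.1.1 p.1.2 p.2 i)) (fun _ _ u hu k => hu k trivial) (fun p hp q hq e =>
      Prod.ext (Prod.ext (sg_inj R.two (congrFun e (.inl false))) (sg_inj R.two (congrFun e (.inl true))))
        (wd_injective (funext fun i => by
          have := sg_inj R.two (congrFun e (.inr (i, none)))
          simpa [chV, (mem_filter.1 (mem_product.1 hp).2).2.1, (mem_filter.1 (mem_product.1 hq).2).2.1] using this)))
    fun p hp => h p.1 (mem_product.1 hp).1 p.2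
  refine le_trans ?_ ((card_nsmul_le_sum _ _ n fun p hp =>
    hn p.1 (mem_product.1 hp).1 p.2 (mem_filter.1 (mem_product.1 hp).2).2).trans this)
  rw [card_product, smul_eq_mul]
  exact Nat.mul_le_mul_right _ (Nat.mul_le_mul_left _ card_En)

variable (hd : finrank F U ≤ 4371)
include hd

theorem vd_le_one (h : wd d none + wd d (some 0) = 0) : finrank F (Vd r 0 1 d) ≤ 1 := by
  have := R.vd_sum {(1, 0), (1, 1), (0, 1)} (W := ⊤) (fun _ _ _ => le_top) (n := finrank F (Vd r 0 1 d))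
    fun p hp e he => by
      simp only [mem_insert, mem_singleton] at hp
      rcases hp with rfl | rfl | rfl
      exacts [(R.vd_le h he).1, (R.vd_le h he).2.1, (R.vd_le h he).2.2]
  rw [finrank_top, show ({(1, 0), (1, 1), (0, 1)} : Finset (ZMod 2 × ZMod 2)).card = 3 by decide] at this
  omega

theorem odd_uniq (h1 : ¬ Ev0 μ) (h2 : Wt r μ ≠ ⊥) (h3 : D0 μ.1) (k1 : ¬ Ev0 ν) (k2 : Wt r ν ≠ ⊥) (k3 : D0 ν.1)
    {c : LL} (hc : pol c c0 = 0) : pol μ c = pol ν c := by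
  have p : ∀ {μ : LL}, ¬ Ev0 μ → D0 μ.1 → Wt r μ ≤ Vd r 0 1 0 := fun {μ} a b u hu =>
    let ⟨x, y, z⟩ := mem_Vd.1 (wt_le_vd a hu)
    mem_Vd.2 ⟨x, y, fun i j => by rw [z, d0_iff.1 b, d0_iff.1 d0_zero]⟩
  obtain ⟨u, hu, u0⟩ := Submodule.exists_mem_ne_zero_of_ne_bot h2
  obtain ⟨x, hx, x0⟩ := Submodule.exists_mem_ne_zero_of_ne_bot k2
  obtain ⟨a, rfl⟩ := ex_smul (R.vd_le_one hd (by simp)) (p h1 h3 hu) u0 (p k1 k3 hx)
  exact eq_of_sg R.two x0 ((mem_Wt.1 ((Wt r μ).smul_mem a hu) 0 c hc).symm.trans (mem_Wt.1 hx 0 c hc))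

theorem odd_snd (h1 : ¬ Ev0 μ) (h2 : Wt r μ ≠ ⊥) (h3 : D0 μ.1) : μ.2 = sy (e1 none) ∨ μ.2 = sy (e1 (some 0)) :=
  snd_of_fix h1 h3 (span1 fun c hc => by
    rw [pol_add_left, R.odd_uniq hd (mt (ev0_csm (perm_mem_Mon _)).1 h1) (R.wt_map' m11_v1 h2) (m11_d0 h1 h3)
      h1 h2 h3 hc, z2_add_self])

theorem odd_fst (h1 : ¬ Ev0 μ) (h2 : Wt r μ ≠ ⊥) (h3 : D0 μ.1) : μ.1 = 0 := h3.resolve_right fun e => by
  have k : Wt r (om, sy (e1 (some 0))) ≠ ⊥ := by
    rcases R.odd_snd hd h1 h2 h3 with q | q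
    · rwa [← Wt_c0, show μ + c0 = (om, sy (e1 (some 0))) from Prod.ext (by rw [Prod.fst_add, e]; exact add_zero _)
        (by rw [Prod.snd_add, q, c0, clB, e2, map_add, ← add_assoc, cd_add_self, zero_add])] at h2
    · rwa [← q, ← e]
  have := R.wt_map' mx_v1 k
  rw [mx_odd] at this
  exact absurd (R.odd_snd hd (by rw [Ev0]; decide +kernel) this d0_om) (by decide +kernel)

theorem odd_cls (h1 : ¬ Ev0 μ) (h2 : Wt r μ ≠ ⊥) : ∃ x, nm x = 32 ∧ ip x v1 = 16 ∧ μ = cls x := by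
  have e := en_dE (R.wt_pol h2)
  have k1 := mt (ev0_csm (sgC_mem_Mon (dE μ))).1 h1
  have k2 := R.wt_map' e.v1 h2
  have k3 : D0 (csm (sgC (dE μ)) μ).1 := d0_iff.2 fun i j => by
    rw [← pol_clB, pol_sgC_B _ h1, pol_clB, wd_dE, wd_dE, add_add_add_comm (wd μ.1 i) (wd μ.1 none), z2_add_self,
      add_zero, z2_add_self]
  have key : ∀ x, nm x = 32 → ip x v1 = 16 → csm (sgC (dE μ)) μ = cls x → ∃ x, nm x = 32 ∧ ip x v1 = 16 ∧ μ = cls x :=
    fun x a b c => ⟨sgC (dE μ) • x, by rwa [nm_smul], by rwa [← e.v1, ip_smul], by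
      rw [← csm_cls, ← c, ← csm_mul, sgC_mul_self, csm_one]⟩
  rcases R.odd_snd hd k1 k2 k3 with q | q
  · exact key (-lam none) (by rw [nm_neg, nm_lam]) (by rw [TriV.ip_v1]; simp [lam_apply])
      (by rw [cls_neg, cls_lam]; exact Prod.ext (R.odd_fst hd k1 k2 k3) q)
  · exact key _ (nm_lam _) ip_lam0 (by rw [cls_lam]; exact Prod.ext (R.odd_fst hd k1 k2 k3) q)

theorem wt_cls (h : Wt r μ ≠ ⊥) : μ = 0 ∨ μ = c0 ∨ ∃ x, nm x = 32 ∧ ip x v1 = 16 ∧ μ = cls x := by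
  refine or_iff_not_imp_left.2 fun h0 => or_iff_not_imp_left.2 fun h1 => ?_
  obtain ⟨g, a, b⟩ := ex_odd h0 h1
  obtain ⟨x, x1, x2, x3⟩ := R.odd_cls hd b (R.wt_map' a h)
  exact ⟨g⁻¹ • x, by rwa [nm_smul], by rwa [ip_smul_left, inv_inv, a], by rw [← csm_cls, ← x3, ActH.csm_inv_csm]⟩

theorem wt_le_one (h0 : μ ≠ 0) (h1 : μ ≠ c0) : finrank F (Wt r μ) ≤ 1 := by
  by_cases e : Wt r μ = ⊥
  · rw [e, finrank_bot]; exact zero_le_one
  obtain ⟨g, a, b⟩ := ex_odd h0 h1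
  obtain ⟨k, o⟩ := ex_lift a
  exact ((R.le_of_map o.mem fun _ => R.ov_wt o).trans (Submodule.finrank_mono (wt_le_vd b))).trans
    (R.vd_le_one hd ((pol_c0 _).symm.trans (R.wt_pol (R.wt_map o e))))

theorem wt_ne {x : Λ} (hx : nm x = 32) (h : ip x v1 = 16) : Wt r (cls x) ≠ ⊥ := by
  obtain ⟨μ, a, b⟩ := R.ex_odd_wt
  obtain ⟨y, y1, y2, rfl⟩ := R.odd_cls hd a b
  obtain ⟨g, g1, rfl⟩ := trans_pair nm_v1 y1 nm_v1 hx (by rw [ip_comm, y2, ip_comm, h])
  exact csm_cls g y ▸ R.wt_map' g1 b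

theorem count : finrank F (Wt r 0) + 4348 ≤ finrank F U := by
  classical
  have h1 := sum_finrank_le (univ : Finset (Fin 2)) (Eg r) (fun _ : Unit => r zz) (fun a _ => sg F a) (W := ⊤)
    (fun _ _ u hu _ => mem_Eg.1 hu) (fun _ _ _ _ e => sg_inj R.two (congrFun e ())) fun _ _ => le_top
  rw [Fin.sum_univ_two, finrank_top] at h1
  obtain ⟨μ, m1, m2⟩ := R.ex_odd_wt
  have m3 := (one_le_finrank m2).trans (Submodule.finrank_mono (wt_le_vd m1))
  have m4 := (pol_c0 _).symm.trans (R.wt_pol m2)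
  have h2 := R.vd_sum {(1, 0), (1, 1)} (W := Eg r 1) (fun p hp d u hu => by
      simp only [mem_insert, mem_singleton] at hp
      rcases hp with rfl | rfl <;> exact mem_Eg.2 (mem_Vd.1 hu).1) (n := 1) fun p hp e he => by
    simp only [mem_insert, mem_singleton] at hp
    rcases hp with rfl | rfl
    exacts [m3.trans (R.vd_le m4 he).1, m3.trans (R.vd_le m4 he).2.1]
  rw [show ({(1, 0), (1, 1)} : Finset (ZMod 2 × ZMod 2)).card = 2 by decide] at h2
  obtain ⟨l, hl⟩ := ActH.exists_pol_one c0_ne_zero 1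
  let X := Min.filter fun x => ip v1 x = 16
  have mX : ∀ {x}, x ∈ X ↔ nm x = 32 ∧ ip x v1 = 16 := by simp only [X, mem_filter, mem_Min, ip_comm v1, implies_true]
  have c1 := card_filter_add_card_filter_not (s := X) fun x => pol l (cls x) = 0
  have c2 : (X.filter fun x => ¬ pol l (cls x) = 0).card ≤ (X.filter fun x => pol l (cls x) = 0).card :=
    card_le_card_of_injOn (v1 - ·) (fun x hx => by
      obtain ⟨a, b⟩ := mem_filter.1 hx
      obtain ⟨a, c⟩ := mX.1 a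
      refine mem_filter.2 ⟨mX.2 ⟨by rw [nm_sub, nm_v1, a, ip_comm, c]; rfl, by rw [ip_sub_left, c, ip_self, nm_v1]; rfl⟩, ?_⟩
      rw [cls_sub, pol_add_right, cls_v1, hl, (z2c _).resolve_left b]; rfl) sub_right_injective.injOn
  rw [← cnt_eq, (cnt_min nm_v1).1] at c1
  have c3 : ((X.filter fun x => pol l (cls x) = 0).image cls).card = _ := card_image_of_injOn fun x hx y hy e => by
    obtain ⟨a, b⟩ := mX.1 (mem_filter.1 hx).1
    obtain ⟨c, d⟩ := mX.1 (mem_filter.1 hy).1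
    refine ((cls_eq_iff_short a c).1 e).resolve_right fun q => ?_
    rw [q, ip_neg_left, d] at b; omega
  have p : ∀ μ ∈ insert 0 ((X.filter fun x => pol l (cls x) = 0).image cls), pol l μ = 0 := fun μ hμ => by
    rcases mem_insert.1 hμ with rfl | hμ
    · exact pol_zero_right _
    · obtain ⟨x, hx, rfl⟩ := mem_image.1 hμ
      exact (mem_filter.1 hx).2
  have h3 := sum_finrank_le (insert 0 ((X.filter fun x => pol l (cls x) = 0).image cls)) (Wt r)
    (fun c : {c // pol c c0 = 0} => r (tq 0 c)) (fun μ c => sg F (pol μ c)) (W := Eg r 0)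
    (fun _ _ u hu c => mem_Wt.1 hu 0 c c.2) (fun μ hμ ν hν e => by
      rcases span1 (μ := μ + ν) fun c hc => (by
        rw [pol_add_left, sg_inj R.two (congrFun e ⟨c, hc⟩), z2_add_self]) with q | q
      · exact ll_eq_of_add q
      · rw [← q, pol_add_right, p μ hμ, p ν hν] at hl
        exact absurd hl (by decide))
    fun μ _ u hu => mem_Eg.2 (by rw [Xw_z (Wt_le_Xw _ hu), sg_zero, one_smul])
  rw [sum_insert fun h => by
    obtain ⟨x, hx, e⟩ := mem_image.1 h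
    exact cls_ne_zero (mX.1 (mem_filter.1 hx).1).1 e] at h3
  have h4 := card_nsmul_le_sum ((X.filter fun x => pol l (cls x) = 0).image cls) (fun μ => finrank F (Wt r μ)) 1
    fun μ hμ => by
      obtain ⟨x, hx, rfl⟩ := mem_image.1 hμ
      exact one_le_finrank (R.wt_ne hd (mX.1 (mem_filter.1 hx).1).1 (mX.1 (mem_filter.1 hx).1).2)
  rw [smul_eq_mul, c3] at h4
  change finrank F (Eg r 0) + finrank F (Eg r 1) ≤ _ at h1
  omega

theorem xw_zero : Xw r 0 ≤ Wt r 0 := by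
  refine R.le_of_wt (fun _ => Xw_z) (fun c hc u hu => csm_zero 1 ▸ R.ov_xw (ov_tq 0 hc) Mon.one_mem hu)
    fun μ u hu h0 hμ => ?_
  have k := R.wt_cls hd fun e => h0 (e.le hμ)
  rcases span2 (μ := μ) fun c a b => eq_of_sg R.two h0 ((mem_Wt.1 hμ 0 c b).symm.trans
    ((mem_Xw.1 hu 0 c a b).trans (by rw [pol_zero_left]))) with rfl | rfl | rfl | rfl
  · exact hμ
  · rcases k with k | k | ⟨x, a, -, k⟩
    exacts [(v0_ne.1 k).elim, (v0_ne.2 k).elim, (ZH.om_ne.2.2 (by rw [show (om, 0) = cls x from k]; exact cls_mem_ShS a)).elim]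
  · rwa [← zero_add c0, Wt_c0] at hμ
  · rcases k with k | k | ⟨x, a, b, k⟩
    · exact (v0_ne.2 (ll_eq_of_add k)).elim
    · exact (v0_ne.1 (add_eq_right.1 k)).elim
    · refine (cls_ne_of_ip a (nm_v44 p01 1 1) ?_ (k.symm.trans ?_)).elim
      · rcases (cls_eq_iff_short a (nm_v44 p01 1 1)).1 (k.symm.trans (by rw [← clC_eq_cls]; simp [c0, clB, clC])) with
          q | q <;> rw [q, TriV.ip_v1] at b <;> simp [v44_apply] at b
      · rw [← clC_eq_cls]; simp [c0, clB, clC]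

end Rp

end Cfsg.Agent.Gr.R4
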