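import Mathlib
import Cfsg.Agent.Gr.R4.Wt

/-! The fixed space of the extraspecial group contains a weight vector of a point. -/

set_option autoImplicit false

namespace Cfsg.Agent.Gr.R4

open Matrix Module Cfsg.Agent.Spor Cfsg.Agent.Spor.Leech Cfsg.Agent.Gr.Rk Cfsg.Agent.Gr.Am

variable {F : Type*} [Field F] {U : Type*} [AddCommGroup U] [Module F U] {r : K → End F U} {μ c : LL} {u : U} {t : K}

theorem pol_C (h : Ev0 c) : pol (clC none (some 1)) c = wd (dE c) (some 1) := by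
  rw [pol_comm, pol_clC, h, zero_add, wd_dE, add_comm]

theorem ev0_v0 : Ev0 v0 := ev0_zero _

theorem xw_zs (h : Ev0 μ) (hu : u ∈ Xw r μ) : r zs u = u := by
  rw [mem_Xw.1 hu 1 v0 ev0_v0 pol_v0_c0, pol_comm, ev0_iff.1 h, sg_zero, one_smul]

namespace Rp

variable (R : Rp r)
include R

theorem tau_z (h : Tau t) (h1 : r zz u = u) (h2 : r zs u = u) : r zz (r t u) = r t u ∧ r zs (r t u) = r t u := by
  rcases h.zs with q | q
  · have a := R.conj h.mem z_HH q.1 u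
    have b := R.conj h.mem zs_HH q.2 u
    rw [h1] at a
    rw [h2, R.ap_mul z_HH zs_HH, a] at b
    exact ⟨b, a⟩
  · have a := R.conj h.mem zs_HH q.2 u
    have b := R.conj h.mem z_HH q.1 u
    rw [h2] at a
    rw [h1, R.ap_mul z_HH zs_HH] at b
    exact ⟨a, R.ap_inj z_HH (b.trans a.symm)⟩

theorem xw_cj (h : Tau t) (hμ : V12 μ) (h1 : Ev0 c) (h2 : pol c c0 = 0) (hu : u ∈ Xw r μ) :
    r (t * tq 0 c * t⁻¹) u ∈ Xw r μ := by
  have := R.ov_xw (h.ov 0 h1 h2) (sgC_mem_Mon _) hu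
  rwa [hμ.csm_sgC, Xw_om] at this

variable [FiniteDimensional F U] (hd : finrank F U ≤ 4371)
include hd

theorem ye_cases (h : Tau t) (hu : u ∈ Xw r (clC none (some 1))) (h0 : u ≠ 0) (k : r t u ∈ Xw r μ) (hw : Wt r μ ≠ ⊥)
    (hy : Yw R.Ty (fun d => wd d (some 1)) = ⊥) :
    ∃ l, l ≠ none ∧ l ≠ some 0 ∧ ∀ c, Ev0 c → pol c c0 = 0 → pol μ c = pol (clB none l) c := by
  have n := R.ap_ne h.mem h0
  have v : V12 μ := ⟨d0_iff.2 fun i j => eq_of_sg R.two n (by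
      rw [← pol_clB, ← mem_Xw.1 k 0 _ (v12_clB i j).2 (pol_BB _ _ _ _), R.comm h.mem (tB_HH _ _ _) (h.comm i j),
        mem_Xw.1 hu 0 _ (v12_clB i j).2 (pol_BB _ _ _ _), (v12_clC _ _).pol (v12_clB i j), map_smul]),
    ev0_iff.2 (eq_of_sg R.two n (by
      rw [pol_comm, ← mem_Xw.1 k 1 v0 ev0_v0 pol_v0_c0, sg_zero, one_smul]
      exact (R.tau_z h (Xw_z hu) (xw_zs (v12_clC _ _).2 hu)).2))⟩
  have p : r t u ∉ Xw r 0 := fun q => n (congrArg Subtype.val (hy.le (x := ⟨_, R.xw_zero hd q⟩) (mem_Yw.2 fun d e => by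
    have o := h.ov 0 (ev0_zero d) e.pol
    rw [e.dE] at o
    refine Subtype.ext ((R.Ty_eq o e.v1 _).trans ?_)
    rw [R.conj h.mem (tq_HH.2 e.pol) rfl, mem_Xw.1 hu 0 _ (ev0_zero d) e.pol, pol_C (ev0_zero d), e.dE,
      map_smul]
    rfl)))
  rcases R.wt_cls hd hw with rfl | rfl | ⟨x, a, b, rfl⟩
  · exact (p k).elim
  · exact (p (by rwa [Xw_congr (ν := c0) fun c _ q => by rw [pol_zero_left, pol_comm, q]])).elim
  · exact v12_short a b v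

theorem ye_ne : Yw R.Ty (fun d => wd d (some 1)) ≠ ⊥ := fun hy => by
  have hC := v12_clC none (some 1)
  obtain ⟨b, hb, b0⟩ := Submodule.exists_mem_ne_zero_of_ne_bot
    (R.wt_ne hd nm_x0 (by rw [TriV.ip_v1]; simp [x0, v44_apply, show (0 : ZMod 23) ≠ 1 by decide]))
  rw [cls_x0] at hb
  have z : ∀ u, r tau u ∈ Xw r (clC none (some 1)) → r zz u = u := fun u hu => by
    have := (R.tau_z tt.inv (Xw_z hu) (xw_zs hC.2 hu)).1
    rwa [R.ap_inv tau_HH] at this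
  refine R.ap_ne tt.inv.mem b0 (le_of_eig R.two (fun c : {c // Ev0 c ∧ pol c c0 = 0} => r (tq 0 c))
    (W := (Xw r (clC none (some 1))).comap (r tau)) (P := ⊥) (fun c u hu => ?_) (fun c u hu => ?_)
    (fun a c u hu => ?_) (fun u hu h0 χ hχ => ?_) ?_)
  · rw [Submodule.mem_comap, ← R.conj tau_HH (tq_HH.2 c.2.2) rfl]
    exact R.xw_cj tt hC c.2.1 c.2.2 hu
  · rw [R.tq_tq (z u hu) 0 0 0 c.2.2 c.2.2, ll_add_self, tq_zero, R.ap_one]
  · rw [R.tq_tq (z u hu) 0 0 0 a.2.2 c.2.2, R.tq_tq (z u hu) 0 0 0 c.2.2 a.2.2, add_comm]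
  swap
  · rw [Submodule.mem_comap, R.ap_inv' tau_HH]; exact Wt_le_Xw _ hb
  replace hu : r tau u ∈ Xw r (clC none (some 1)) := hu
  obtain ⟨μ, m1, m2⟩ := R.ex_xw h0 (z u hu) fun c a b => ⟨_, hχ ⟨c, a, b⟩⟩
  have u0 := R.ap_ne tau_HH h0
  have key : ∀ c, Ev0 c → pol c c0 = 0 → r (tq 0 c) (r tau (r tau u)) =
      sg F (pol (clC none (some 1)) c + pol μ c) • r tau (r tau u) := fun c h1 h2 => by
    obtain ⟨f, c', a1, a2, a3, a4⟩ := align h1 h2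
    have o := (tt.inv.ov 0 h1 h2).mem
    have e := R.conj tau_HH (tq_HH.2 h2) a4 u
    rw [R.ap_mul (tq_HH.2 a2) o, mem_Xw.1 (R.xw_cj tt.inv hC h1 h2 hu) f c' a1 a2, mem_Xw.1 m2 0 c h1 h2, map_smul,
      pol_C a1, a3, ← pol_C h1] at e
    rw [R.conj tau_HH o (y := tq 0 c) (by group), sg_add, ← smul_smul, ← map_smul, ← e, map_smul, sg_smul_sg]
  obtain ⟨ν, n1, n2⟩ := R.ex_xw (R.ap_ne tau_HH u0) (R.tau_z tt (Xw_z hu) (xw_zs hC.2 hu)).1
    fun c a b => ⟨_, key c a b⟩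
  obtain ⟨l, l1, l2, l3⟩ := R.ye_cases hd tt.inv hu u0 (by rwa [R.ap_inv tau_HH]) m1 hy
  obtain ⟨m, k1, k2, k3⟩ := R.ye_cases hd tt hu u0 n2 n1 hy
  refine (no4 (l := some 1) ⟨k1, k2⟩ (by decide) ⟨l1, l2⟩ fun d e => ?_).elim
  have := eq_of_sg R.two (R.ap_ne tau_HH u0)
    ((mem_Xw.1 n2 0 _ (ev0_zero d) e.pol).symm.trans (key _ (ev0_zero d) e.pol))
  rw [k3 _ (ev0_zero d) e.pol, l3 _ (ev0_zero d) e.pol, pol_C (ev0_zero d), e.dE, pol_comm, pol_clB, pol_comm,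
    pol_clB, e.1, zero_add, zero_add] at this
  exact this

end Rp

end Cfsg.Agent.Gr.R4
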