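import Mathlib
import Cfsg.Agent.Gr.R4.Ye
import Cfsg.Agent.Gr.R4.Ym

/-! The vector fixed by the centraliser of `t0, s0`. -/

set_option autoImplicit false

namespace Cfsg.Agent.Gr.R4

open Matrix Module Subgroup Cfsg.Agent.Spor Cfsg.Agent.Spor.Leech Cfsg.Agent.Gr.Rk Cfsg.Agent.Gr.Am

namespace MainA

variable {F : Type*} [Field F] {U : Type*} [AddCommGroup U] [Module F U] {r : K → End F U} {μ c : LL} {u w : U}
  {t g : K} {h : Co0} {d : Cd}

/-- The class of `v1 - v2`. -/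
abbrev Bc : LL := clB none (some 1)

theorem cls_v2 : cls v2 = Bc + c0 := by
  rw [Bc, ← cls_v3, cls_sub, cls_v1, add_comm c0, add_assoc, ll_add_self, add_zero]

theorem ip_v2_v1 : ip v2 v1 = 16 := by rw [ip_comm, ip_v1_v2]

theorem Bc_ne : Bc ≠ 0 ∧ Bc ≠ c0 := by
  have := ne_c0 nm_v2 ip_v2_v1
  rw [cls_v2] at this
  exact ⟨fun e => this.2 (by rw [e, zero_add]), fun e => this.1 (by rw [e, ll_add_self])⟩

theorem pol_B (k : Pt) (c : LL) : pol (clB none k) c = wd (dE c) k := by rw [pol_comm, pol_clB, wd_dE, add_comm]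

theorem ex_d1 : ∃ d, En d ∧ wd d (some 1) = 1 :=
  let ⟨d, a, b, _⟩ := ex_sep (k := some 1) (l := some 2) (by decide) (by decide) (by decide)
  ⟨d, a, b⟩

theorem wt_neg {k : Pt} (hu : u ∈ Xw r (clB none k)) (hd : En d) (h1 : wd d k = 1) : r (tq 0 (d, 0)) u = -u := by
  rw [mem_Xw.1 hu 0 _ (ev0_zero d) hd.pol, pol_B, hd.dE, h1, sg_one, neg_one_smul]

theorem csm_B (hv : h • v1 = v1) : csm h Bc = cls (h • v2) + c0 := by
  rw [Bc, ← cls_v3, csm_cls, smul_sub, hv, cls_sub, cls_v1, add_comm]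

theorem SS_le : SS ≤ HH := fun x hx => (ov_SS ⟨x, hx⟩).mem

variable (R : Rp r)
include R

theorem ov_B (o : Ov g h) (hu : u ∈ Wt r Bc) : r g u ∈ Wt r (cls (h • v2)) := by
  have := R.ov_wt o hu
  rwa [csm_B o.fix, Wt_c0] at this

theorem yw_ap {χ : Cd → ZMod 2} {η : Wt r 0} (hη : η ∈ Yw R.Ty χ) (hd : En d) (o : Ov g (sgC d)) :
    r g η = sg F (χ d) • (η : U) :=
  (R.Ty_eq o hd.v1 η).symm.trans (congrArg Subtype.val (mem_Yw.1 hη d hd))

theorem tau_xw (ht : Tau t) {χ : Cd → ZMod 2} {η : Wt r 0} (hη : η ∈ Yw R.Ty χ) (e : ∀ c, pol μ c = χ (dE c)) :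
    r t η ∈ Xw r μ := mem_Xw.2 fun f c h1 h2 => by
  have o := ht.inv.ov f h1 h2
  rw [R.conj ht.mem o.mem (y := tq f c) (by group), yw_ap R hη (en_dE h2) o, e, map_smul]

theorem tau3 (hu : u ∈ Wt r 0) : r tau (r tau (r tau u)) = u := by
  rw [← R.ap_mul tau_HH tau_HH, ← R.ap_mul (HH.mul_mem tau_HH tau_HH) tau_HH, Y_fix hu ov_tau3]

theorem tau2 (hu : u ∈ Wt r 0) : r tau (r t1 (r tau u)) = u := by
  have := Y_fix hu ov_tt
  rwa [R.ap_mul (HH.mul_mem (HH.mul_mem tau_HH ov_t1.mem) tau_HH) ov_t1.mem, Y_fix hu ov_t1,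
    R.ap_mul (HH.mul_mem tau_HH ov_t1.mem) tau_HH, R.ap_mul tau_HH ov_t1.mem] at this

theorem uu_mem {e : Wt r 0} (he : e ∈ Yw R.Ty fun d => wd d (some 1)) : r tau e + r tau⁻¹ e ∈ Wt r Bc := by
  have a : r t1 (r tau e) = r tau⁻¹ e := R.ap_inj tau_HH (by rw [tau2 R e.2, R.ap_inv' tau_HH])
  have b : r t1 (r tau⁻¹ e) = r tau e := by
    rw [← a]
    nth_rewrite 1 [← t1_inv]
    exact R.ap_inv ov_t1.mem _
  refine R.wt_of_t1 (add_mem (tau_xw R tt he (pol_B _)) (tau_xw R tt.inv he (pol_B _))) ?_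
  rw [map_add, a, b, add_comm, pol_comm, pol_clB]
  simp

theorem eq_zero_of_tau (hw : w ∈ Wt r Bc) (k : r tau w = w) : w = 0 := by
  obtain ⟨d, hd, h1⟩ := ex_d1
  obtain ⟨f, c, c1, c2, c3, e⟩ := align (ev0_zero d) hd.pol
  have q := (tq_HH (e := 0)).2 hd.pol
  have n := wt_neg (Wt_le_Xw _ hw) hd h1
  have k' : r tau⁻¹ w = w := by
    nth_rewrite 1 [← k]
    exact R.ap_inv tau_HH w
  have a : r (tau * tq 0 (d, 0) * tau⁻¹) w = -w := by
    rw [R.ap_mul (HH.mul_mem tau_HH q) tt.inv.mem, R.ap_mul tau_HH q, k', n, map_neg, k]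
  rw [e, inv_inv, R.ap_mul (tq_HH.2 c2) (HH.mul_mem (HH.mul_mem tt.inv.mem q) tau_HH),
    R.ap_mul (HH.mul_mem tt.inv.mem q) tau_HH, R.ap_mul tt.inv.mem q, k, n, map_neg, k', map_neg,
    mem_Wt.1 hw f c c2, pol_B, c3, hd.dE, h1, sg_one, neg_one_smul, neg_neg] at a
  exact eq_zero_of_neg R.two a

/-- The elements of `HH` which fix a vector. -/
def FxK (u : U) : Subgroup K := (Fx (R.hom HH le_rfl) u).map HH.subtype

theorem mem_FxK : g ∈ FxK R u ↔ g ∈ HH ∧ r g u = u :=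
  ⟨fun ⟨x, a, b⟩ => b ▸ ⟨x.2, a⟩, fun a => ⟨⟨g, a.1⟩, a.2, rfl⟩⟩

variable [FiniteDimensional F U] (hd : finrank F U ≤ 4371)
include hd

theorem tau_y (h1 : finrank F (Yw R.Ty 0) ≤ 1) {y : Wt r 0} (hy : y ∈ Yw R.Ty 0) (y0 : y ≠ 0) : r tau y = y := by
  have m : r tau y ∈ Wt r 0 := R.xw_zero hd (tau_xw R tt hy fun c => pol_zero_left c)
  obtain ⟨a, ha⟩ := ex_smul h1 hy y0 (x := ⟨_, m⟩) (mem_Yw.2 fun d e => Subtype.ext (by
    have o := tt.ov 0 (ev0_zero d) e.pol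
    rw [e.dE] at o
    refine (R.Ty_eq o _ _).trans ?_
    rw [R.conj tau_HH (tq_HH.2 e.pol) rfl, Y_fix y.2 (ov_tq 0 e.pol), Pi.zero_apply, sg_zero, one_smul]))
  have ha : r tau y = a • (y : U) := congrArg Subtype.val ha
  have n : (y : U) ≠ 0 := fun e => y0 (Subtype.ext e)
  have a3 := tau3 R y.2
  have a2 := tau2 R y.2
  simp only [ha, map_smul, smul_smul, Y_fix y.2 ov_t1] at a3 a2
  have b3 := smul_left_injective F n (a3.trans (one_smul F _).symm)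
  rw [smul_left_injective F n (a2.trans (one_smul F _).symm), one_mul] at b3
  rw [ha, b3, one_smul]

theorem SS_fix (hu : u ∈ Wt r Bc) (x : SS) : r x u = u := by
  by_cases h0 : u = 0
  · rw [h0, map_zero]
  have := simple_UU
  have : Finite UU := Nat.finite_of_card_ne_zero (by rw [card_UU]; decide)
  refine fix_of_simple (R.hom SS SS_le) (B := UU) (by rw [card_UU]; norm_num) thU thU_surjective (fun g k => ?_)
    (fun g => ex_smul (R.wt_le_one hd Bc_ne.1 Bc_ne.2) hu h0 ?_) x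
  · have o := ov_SS g
    rw [k] at o
    obtain ⟨e, c, k1, k2⟩ := o.eq_tq
    have := (tq_mem_SS.1 (k2 ▸ g.2)).2
    rw [cls_v2, pol_add_right, k1, add_zero, pol_comm] at this
    change r g u = u
    rw [k2, mem_Wt.1 hu e c k1, this, sg_zero, one_smul]
  · have := ov_B R (ov_SS g) hu
    rwa [(thU g).2.2, cls_v2, Wt_c0] at this

/-- The fixed vector. -/
theorem ex_v0 (h1 : finrank F (Yw R.Ty 0) ≤ 1) {e y : Wt r 0} (he : e ∈ Yw R.Ty fun d => wd d (some 1))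
    (hy : y ∈ Yw R.Ty 0) (y0 : y ≠ 0) (hf : ∀ g : S1, g.1 • v2 = v2 → R.Ty g (e + y) = e + y) :
    ∃ u ∈ Wt r Bc, ((e + y : Wt r 0) : U) + u ≠ 0 ∧ ∀ g ∈ centralizer ({t0, s0} : Set K),
      r g (((e + y : Wt r 0) : U) + u) = ((e + y : Wt r 0) : U) + u := by
  have m := uu_mem R he
  refine ⟨_, m, fun k => ?_, fun g hg => ((mem_FxK R).1 (gen_L (X := FxK R _) (fun x hx => ?_) ?_ hg)).2⟩
  · obtain ⟨d, hd, h1⟩ := ex_d1
    have a := congrArg (r (tq 0 (d, 0))) k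
    rw [map_add, Y_fix (e + y).2 (ov_tq 0 hd.pol), wt_neg (Wt_le_Xw _ m) hd h1, map_zero] at a
    have b : e + y = 0 := Subtype.ext (eq_zero_of_neg R.two (by
      linear_combination (norm := module) a + k))
    have c := congrArg (R.Ty ⟨sgC d, hd.v1⟩) b
    rw [map_add, mem_Yw.1 he d hd, mem_Yw.1 hy d hd, h1, Pi.zero_apply, sg_one, sg_zero, map_zero] at c
    exact y0 (eq_zero_of_neg R.two (by linear_combination (norm := module) b + c))
  · refine (mem_FxK R).2 ⟨SS_le hx, ?_⟩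
    have o := ov_SS ⟨x, hx⟩
    rw [map_add, SS_fix R hd m ⟨x, hx⟩, ← R.Ty_eq o o.fix, hf ⟨_, o.fix⟩ (thU ⟨x, hx⟩).2.2]
  · refine (mem_FxK R).2 ⟨tau_HH, ?_⟩
    have a : r tau (r tau e) = r tau⁻¹ e := R.ap_inj tau_HH (by rw [tau3 R e.2, R.ap_inv' tau_HH])
    rw [Submodule.coe_add, map_add, map_add, map_add, tau_y R hd h1 hy y0, a, R.ap_inv' tau_HH]
    abel

end MainA

end Cfsg.Agent.Gr.R4
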