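import Mathlib
import Cfsg.Agent.Gr.R4.MainA

/-! The least degree and the system of axial vectors. -/

set_option autoImplicit false

namespace Cfsg.Agent.Gr.R4

open Module

namespace MainB

open Matrix Subgroup Cfsg.Agent.Spor Cfsg.Agent.Spor.Leech Cfsg.Agent.Gr.Rk Cfsg.Agent.Gr.Am MainA

variable {F : Type*} [Field F] {U : Type*} [AddCommGroup U] [Module F U] {r : K → End F U} {a u : U} {t g : K}
  {h : Co0} {d : Cd}

open Classical in
/-- The vector attached to a conjugate of `s0`. -/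
noncomputable def vv (r : K → End F U) (a : U) (t : K) : U :=
  if h : ∃ g ∈ HH, g * s0 * g⁻¹ = t then r h.choose a else 0

theorem ex_cj (ht : t ∈ O1 t0) : ∃ g ∈ HH, g * s0 * g⁻¹ = t :=
  let ⟨g, a, b⟩ := O1_trans t0_mem s0_mem ht
  ⟨g, mem_cent.2 a, b⟩

theorem ex_lift0 (hv : h • v1 = v1) : ∃ g, Ov g h ∧ ∀ f, g * tq f (cls v2) * g⁻¹ = tq f (cls (h • v2)) := by
  obtain ⟨g, o, k⟩ := ex_lift2 hv (ne_c0 nm_v2 ip_v2_v1).1 (ne_c0 nm_v2 ip_v2_v1).2 0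
  exact ⟨g, o, fun f => by rw [k, add_zero, csm_cls]⟩

theorem f_zero (h2 : (2 : F) ≠ 0) {f : U →ₗ[F] F} {s : End F U} (h1 : f (s u) = f u) (k : s u = -u) : f u = 0 :=
  eq_zero_of_neg h2 (by rw [← map_neg, ← k, h1])

theorem ex_dk {k : Pt} (h1 : k ≠ none) (h2 : k ≠ some 0) : ∃ d, En d ∧ wd d k = 1 :=
  let ⟨d, a, b, _⟩ := ex_sep h1 h2 h1
  ⟨d, a, b⟩

theorem lam_neg (hu : u ∈ Wt r (cls (lam (some 0)))) : r (tq 0 v0) u = -u := by
  rw [mem_Wt.1 hu 0 v0 pol_v0_c0, cls_lam, pol_comm, pol_om, sy_dot_om, sum_e1, sg_one, neg_one_smul]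

variable (R : Rp r)
include R

theorem vv_eq (ha : ∀ g ∈ centralizer ({t0, s0} : Set K), r g a = a) (hg : g ∈ HH) :
    vv r a (g * s0 * g⁻¹) = r g a := by
  have e : ∃ k ∈ HH, k * s0 * k⁻¹ = g * s0 * g⁻¹ := ⟨g, hg, rfl⟩
  obtain ⟨e1, e2⟩ := e.choose_spec
  rw [vv, dif_pos e]
  generalize e.choose = k at e1 e2
  have m := HH.mul_mem (HH.inv_mem hg) e1
  rw [← mul_inv_cancel_left g k, R.ap_mul hg m, ha _ (GenH.mem_cent2.2 ⟨mem_cent.1 m,
    mul_inv_eq_iff_eq_mul.1 (by rw [← conj_conj, e2, ZH.cj_inv])⟩)]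

theorem vv_eqv (ha : ∀ g ∈ centralizer ({t0, s0} : Set K), r g a = a) (hg : g ∈ HH) {k : K} (hk : k ∈ HH) :
    r g (vv r a (k * s0 * k⁻¹)) = vv r a (g * (k * s0 * k⁻¹) * g⁻¹) := by
  rw [conj_conj, vv_eq R ha hk, vv_eq R ha (HH.mul_mem hg hk), R.ap_mul hg hk]

variable {x : Wt r 0} (hu : u ∈ Wt r Bc) (ha : ∀ g ∈ centralizer ({t0, s0} : Set K), r g (x + u) = x + u)
include hu ha

theorem vv_neg (hg : ∃ g : S1, g.1 • v2 = v1 - v2 ∧ R.Ty g x = -x) (ht : t ∈ O1 t0) :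
    vv r (x + u) (t0 * t) = -vv r (x + u) t := by
  obtain ⟨⟨h, hv⟩, h1, h2⟩ := hg
  obtain ⟨κ, o, k⟩ := ex_lift0 hv
  have e : κ * s0 * κ⁻¹ = t0 * s0 := by rw [t0_mul_s0, s0_v2, k, show h • v2 = v1 - v2 from h1, cls_v3]
  have a : r κ x = -x := (R.Ty_eq o hv x).symm.trans (congrArg Subtype.val h2)
  have m : r κ u ∈ Wt r Bc := by
    have := ov_B R o hu
    rwa [show h • v2 = v1 - v2 from h1, cls_v3] at this
  have b : r tau (r κ (x + u)) = r κ (x + u) := by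
    rw [← vv_eq R ha o.mem, vv_eqv R ha tau_HH o.mem, e, conj_mul', conj_eq_of_comm tau_t0, conj_eq_of_comm tau_s0]
  have c : r κ (x + u) + (x + u) = r κ u + u := by rw [map_add, a]; abel
  have z : r κ (x + u) + (x + u) = 0 := eq_zero_of_tau R (c ▸ add_mem m hu) (by
    rw [map_add, b, ha tau (GenH.mem_cent2.2 ⟨tau_t0, tau_s0⟩)])
  obtain ⟨g, hg, rfl⟩ := ex_cj ht
  nth_rewrite 1 [← conj_eq_of_comm (mem_cent.1 hg)]
  rw [← conj_mul', ← e, ← vv_eqv R ha hg o.mem, vv_eq R ha o.mem, vv_eq R ha hg, eq_neg_of_add_eq_zero_left z, map_neg]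

theorem vv_two (hv : h • v1 = v1) :
    vv r (x + u) (tq 0 (cls (h • v2))) + vv r (x + u) (tq 1 (cls (h • v2))) = (2 : F) • (R.Ty ⟨h, hv⟩ x : U) := by
  obtain ⟨g, o, k⟩ := ex_lift0 hv
  obtain ⟨d, hd, h1⟩ := ex_d1
  have q := (tq_HH (e := 0)).2 hd.pol
  have e : tq 0 (d, 0) * s0 * (tq 0 (d, 0))⁻¹ = tq 1 (cls v2) := by
    rw [s0_v2, tq_conj, cls_v2, pol_add_right, hd.pol, add_zero, pol_comm, pol_B, hd.dE, h1, zero_add]
  rw [← k, ← k, ← e, ← vv_eqv R ha o.mem q, vv_eq R ha q, ← s0_v2, vv_eq R ha o.mem, ← map_add, R.Ty_eq o hv,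
    ← map_smul, map_add (r (tq _ _)), Y_fix x.2 (ov_tq 0 hd.pol), wt_neg (Wt_le_Xw _ hu) hd h1]
  congr 1
  module

omit hu ha in
theorem aa_aux {e y : Wt r 0} (he : e ∈ Yw R.Ty fun d => wd d (some 1)) (hy : y ∈ Yw R.Ty 0) (hu : u ∈ Wt r Bc)
    (ha : ∀ g ∈ centralizer ({t0, s0} : Set K), r g (↑(e + y) + u) = ↑(e + y) + u) {σ : M24} (h0 : σ.1 none = none)
    (h1 : σ.1 (some 0) = some 0) (hp : ∀ hσ : perm σ ∈ S1, R.Ty ⟨perm σ, hσ⟩ y = y) :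
    AA (vv r (↑(e + y) + u)) (σ.1 (some 1)) = (4 : F) • (y : U) := by
  obtain ⟨d, hd, d1⟩ := ex_d1
  have hv : perm σ • v1 = v1 := by rw [v1, perm_v44, h0, h1]
  have hv' : (perm σ * sgC d) • v1 = v1 := by rw [mul_smul, hd.v1, hv]
  have a := vv_two R hu ha hv
  have b := vv_two R hu ha hv'
  rw [v2, perm_v44, h1, ← clB_eq_cls] at a
  rw [v2, mul_smul, sgC_v44, if_pos d1, if_neg (by rw [hd.2]; decide), perm_v44, h1, ← neg_v44, cls_neg,
    ← clC_eq_cls] at b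
  have c : R.Ty ⟨perm σ * sgC d, hv'⟩ (e + y) = R.Ty ⟨perm σ, hv⟩ (-e + y) := by
    rw [show (⟨perm σ * sgC d, hv'⟩ : S1) = ⟨perm σ, hv⟩ * ⟨sgC d, hd.v1⟩ from rfl, R4.ap_mul, map_add,
      mem_Yw.1 he d hd, mem_Yw.1 hy d hd, d1, Pi.zero_apply, sg_one, sg_zero, neg_one_smul, one_smul]
  rw [AA, a, b, c, map_add, map_add, map_neg, hp hv]
  simp only [Submodule.coe_add, Submodule.coe_neg]
  module

end MainB

open Matrix Subgroup Cfsg.Agent.Spor Cfsg.Agent.Spor.Leech Cfsg.Agent.Gr.Rk Cfsg.Agent.Gr.Am MainA MainB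

variable {F : Type*} [Field F] {U : Type*} [AddCommGroup U] [Module F U] [FiniteDimensional F U] {r : K → End F U}

theorem min_deg (h : Rp r) : 4371 ≤ finrank F U := by
  by_contra k
  have hd : finrank F U ≤ 4371 := by omega
  have a := h.count hd
  have b := Y_ge h.two (h.ye_ne hd)
  omega

theorem ex_AS (h : Rp r) (hd : finrank F U ≤ 4371) : ∃ v, AS r v := by
  obtain ⟨h1, hP, e, he, y, hy, y0, hf, hg, hp⟩ := Y_main h.two (h.ye_ne hd) (by have := h.count hd; omega)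
  obtain ⟨u, hu, n0, ha⟩ := ex_v0 h hd h1 he hy y0 hf
  have A1 : AA (vv r (↑(e + y) + u)) (some 1) = (4 : F) • (y : U) := aa_aux h he hy hu ha (σ := 1) rfl rfl (hp 1)
  have A2 : AA (vv r (↑(e + y) + u)) (some 2) = (4 : F) • (y : U) := by
    obtain ⟨σ, s1, s2⟩ := Golay.exists_Fix_map_list {none, some 0} [some 1] [some 2] (by simp) (by simp)
      (by decide) (by decide) rfl (by rw [List.length_singleton]; decide)
    have s3 : σ (some 1) = some 2 := by simpa using s2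
    have s4 := Golay.mem_Fix.1 s1
    exact s3 ▸ aa_aux h he hy hu ha (σ := ⟨σ, s4.1⟩) (s4.2 _ (by simp)) (s4.2 _ (by simp)) (hp _)
  refine ⟨vv r (↑(e + y) + u), fun g hg t ht => ?_, fun t => vv_neg h hu ha hg, ?_, A1.trans A2.symm,
    fun g d k o => ?_, ?_⟩
  · obtain ⟨k, hk, rfl⟩ := ex_cj ht
    exact vv_eqv h ha hg hk
  · have := vv_eq h ha HH.one_mem
    rw [one_mul, inv_one, mul_one, h.ap_one] at this
    rwa [this]
  · rw [A1, map_smul, yw_ap h hy k o, Pi.zero_apply, sg_zero, one_smul]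
  obtain ⟨g, g1, g2⟩ := trans_pair nm_v1 nm_v2 nm_v1 (nm_lam (some 0)) (by rw [ip_v1_v2, ip_comm, ip_lam0])
  obtain ⟨x, o, k⟩ := ex_lift0 g1
  have e1 : vv r (↑(e + y) + u) t1 = (h.Ty ⟨g, g1⟩ (e + y) : U) + r x u := by
    rw [t1, ← g2, ← k, ← s0_v2, vv_eq h ha o.mem, map_add, h.Ty_eq o g1]
  have m : r x u ∈ Wt r (cls (lam (some 0))) := g2 ▸ ov_B h o hu
  let N : Submodule F (Wt r 0) := ⨆ k, ⨆ _ : k ≠ none ∧ k ≠ some 0, Yw h.Ty fun d => wd d k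
  have top := hP ((F ∙ y) ⊔ N) (fun z hz => by
    obtain ⟨a, rfl⟩ := ex_smul h1 hy y0 hz
    exact Submodule.mem_sup_left (Submodule.smul_mem _ a (Submodule.mem_span_singleton_self y)))
    fun k k1 k2 => le_sup_of_le_right (le_iSup₂_of_le k ⟨k1, k2⟩ le_rfl)
  obtain ⟨_, hz, n, hn, e2⟩ := Submodule.mem_sup.1 (top.ge (Submodule.mem_top (x := h.Ty ⟨g, g1⟩ (e + y))))
  obtain ⟨κ, rfl⟩ := Submodule.mem_span_singleton.1 hz
  have kill : ∀ f : U →ₗ[F] F, (∀ k, k ≠ none → k ≠ some 0 → ∀ η ∈ Yw h.Ty fun d => wd d k, f η = 0) → f n = 0 :=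
    fun f hf => (show N ≤ LinearMap.ker (f ∘ₗ (Wt r 0).subtype) from iSup₂_le fun k q η => hf k q.1 q.2 η) hn
  have h4 : (4 : F) ≠ 0 := by
    rw [show (4 : F) = 2 * 2 by norm_num]
    exact mul_ne_zero h.two h.two
  have fin : ∀ f : U →ₗ[F] F, κ * f y = κ / 4 * f ((4 : F) • (y : U)) := fun f => by
    rw [map_smul, smul_eq_mul, ← mul_assoc, div_mul_cancel₀ _ h4]
  rw [← e2, Submodule.coe_add (κ • y), Submodule.coe_smul] at e1
  refine ⟨κ / 4, fun f hf => ?_, fun f f1 f2 => ?_⟩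
  · rw [e1, A1, map_add, map_add, f_zero h.two (hf _ 0 en_zero (sgC_zero ▸ ov_tq 0 pol_v0_c0) _) (lam_neg m),
      kill f fun k k1 k2 η hη => ?_, add_zero, add_zero, map_smul, smul_eq_mul, fin]
    obtain ⟨d, a, b⟩ := ex_dk k1 k2
    obtain ⟨s, o⟩ := ex_lift a.v1
    exact f_zero h.two (hf s d a o _) (by rw [yw_ap h hη a o, b, sg_one, neg_one_smul])
  · rw [e1, A1, map_add, map_add, map_add, map_add, map_smul, tau_y h hd h1 hy y0,
      f_zero h.two (f1 (r tau (r x u))) (by rw [h.conj tau_HH (tq_HH.2 pol_v0_c0) tau_conj_zero, lam_neg m, map_neg]),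
      show f (r tau n) = 0 from kill (f ∘ₗ r tau) fun k k1 k2 η hη => ?_, add_zero, add_zero, map_smul, smul_eq_mul,
      fin]
    obtain ⟨d, a, b⟩ := ex_dk k1 k2
    exact f_zero (f := f) h.two (f2 d a _) (wt_neg (tau_xw h tt hη (pol_B k)) a b)

end Cfsg.Agent.Gr.R4
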