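import Mathlib
import Cfsg.Agent.Gr.R4.SphA

/-! The spherical function attached to a system of axial vectors. -/

set_option autoImplicit false

namespace Cfsg.Agent.Gr.R4

open Module Subgroup Cfsg.Agent.Spor Cfsg.Agent.Spor.Leech Cfsg.Agent.Gr.TriV SphA

universe v

namespace SphB

/-- An invariant form on the neighbours of `t0` which is odd in the second variable. -/
structure Wf {F : Type*} [Field F] (w : K → K → F) : Prop where
  two : (2 : F) ≠ 0
  inv : ∀ g, g * t0 = t0 * g → ∀ s ∈ O1 t0, ∀ t ∈ O1 t0, w (g * s * g⁻¹) (g * t * g⁻¹) = w s t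
  neg : ∀ s ∈ O1 t0, ∀ t ∈ O1 t0, w s (t0 * t) = -w s t

variable {F : Type*} [Field F] {w : K → K → F} {s t : K}

theorem Wf.std (h : Wf w) (hs : s ∈ O1 t0) (ht : t ∈ O1 t0) :
    ∃ y ∈ O1 t0, lm s0 y = lm s t ∧ w s0 y = w s t := by
  obtain ⟨g, a, b⟩ := O1_trans t0_mem hs s0_mem
  exact ⟨_, O1_conj t0_mem ht a, by rw [← b, lm_cj g hs.1 ht.1], by rw [← b, h.inv g a s hs t ht]⟩

theorem Wf.one (h : Wf w) (hs : s ∈ O1 t0) : w s s = w s0 s0 := by
  obtain ⟨g, a, b⟩ := O1_trans t0_mem hs s0_mem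
  rw [← b, h.inv g a s hs s hs]

theorem Wf.eight (h : Wf w) (hs : s ∈ O1 t0) (ht : t ∈ O1 t0) (e : lm s t = 1 / 8) (n : t ≠ t0 * s) :
    w s t = w s0 y3 := by
  obtain ⟨g, a, b, c⟩ := tri_std t0_mem hs ht ⟨ht.1, e⟩ n
  rw [← b, ← c, h.inv g (mul_inv_eq_iff_eq_mul.1 a) s hs t ht]

theorem Wf.zero (h : Wf w) (hs : s ∈ O1 t0) (ht : t ∈ O1 t0) (e : lm s t = 0) : w s t = -w s0 y3 := by
  have k : lm s (t0 * t) = 1 / 8 := by
    rw [← lm_mul_left t0_mem hs ht]
    rcases O1_table t0_mem hs ht with f | f | f | f | f | f | f | f <;> first | exact f.2 | norm_num [f.1] at e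
  rw [← h.eight hs (O1_mul t0_mem ht) k fun o => by
    rw [mul_left_cancel o, lm_self hs.1] at e; norm_num at e, h.neg s hs t ht, neg_neg]

theorem Wf.c2 (h : Wf w) (hs : s ∈ O1 t0) (ht : t ∈ O1 t0) (e : s * t * s = t0 * t) : w s t = 0 := by
  have := h.inv s (O1_comm t0_mem hs).symm s hs t ht
  rw [mul_inv_cancel_right, DD_inv hs.1, e, h.neg s hs t ht] at this
  exact eq_zero_of_neg h.two this.symm

theorem Wf.four (h : Wf w) (hs : s ∈ O1 t0) (ht : t ∈ O1 t0) (e : lm s t = 1 / 32) : w s t = 0 := by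
  obtain ⟨y, hy, a, b⟩ := h.std hs ht
  obtain ⟨k, k1, k2, k3⟩ := swap4A hy (a.trans e)
  have := h.inv k k1 s0 s0_mem y hy
  rw [k2, k3, h.neg s0 s0_mem y hy] at this
  exact b ▸ eq_zero_of_neg h.two this.symm

theorem Wf.three (h : Wf w) (hs : s ∈ O1 t0) (ht : t ∈ O1 t0) (e : lm s t = 13 / 256) {y : K} (hy : y ∈ O1 t0)
    (e' : lm s0 y = 13 / 256) : w s0 y = w s t := by
  obtain ⟨x, hx, a, b⟩ := h.std hs ht
  obtain ⟨k, k1, k2, k3⟩ := trans3A hx (a.trans e) hy e'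
  rw [← b, ← h.inv k k1 s0 s0_mem x hx, k2, k3]

theorem lm_six (hs : s ∈ O1 t0) (ht : t ∈ O1 t0) (e : lm s t = 5 / 256) : lm s (t0 * t) = 13 / 256 := by
  rw [← lm_mul_left t0_mem hs ht]
  rcases O1_table t0_mem hs ht with f | f | f | f | f | f | f | f <;> first | exact f.2 | norm_num [f.1] at e

/-- The two vectors on the points `k`, `0`. -/
def pB (k : Pt) : Λ := v44 k (some 0) 1 (-1)

/-- The two vectors on the points `k`, `0`. -/
def pC (k : Pt) : Λ := v44 k (some 0) 1 1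

theorem nmB {k : Pt} (h : k ≠ some 0) : nm (pB k) = 32 := nm_v44 h _ _

theorem nmC {k : Pt} (h : k ≠ some 0) : nm (pC k) = 32 := nm_v44 h _ _

theorem mB {k : Pt} (h : k ≠ some 0) (h' : none ≠ k) (e : ZMod 2) : tq e (cls (pB k)) ∈ O1 t0 :=
  nbr (nmB h) (.inl (by rw [ip_comm, ip_v1]; simp [pB, v44_apply, h.symm, h'])) e

theorem mC {k : Pt} (h : k ≠ some 0) (h' : none ≠ k) (e : ZMod 2) : tq e (cls (pC k)) ∈ O1 t0 :=
  nbr (nmC h) (.inr (by rw [ip_comm, ip_v1]; simp [pC, v44_apply, h.symm, h'])) e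

theorem AA_eq {U : Type*} [AddCommGroup U] (v : K → U) (k : Pt) : AA v k =
    v (tq 0 (cls (pB k))) + v (tq 1 (cls (pB k))) + (v (tq 0 (cls (pC k))) + v (tq 1 (cls (pC k)))) := by
  rw [AA, clB_eq_cls, clC_eq_cls, pB, pC]

theorem ne_mul {e f : ZMod 2} {x y : Λ} (h : cls y ≠ cls v1 + cls x) : tq f (cls y) ≠ t0 * tq e (cls x) := by
  rw [t0_v1, tq_mul, Ne, tq_inj]
  exact fun o => h o.2

theorem n10 : (some 1 : Pt) ≠ some 0 := by decide

theorem n20 : (some 2 : Pt) ≠ some 0 := by decide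

theorem Wf.BB (h : Wf w) {x : Λ} (hx : nm x = 32) (m : ∀ e, tq e (cls x) ∈ O1 t0) {e f : ZMod 2} (n : e ≠ f) :
    w (tq e (cls x)) (tq f (cls x)) = -w s0 y3 :=
  h.zero (m e) (m f) (by rw [lm_tq e f hx hx, if_pos rfl, if_neg n])

theorem Wf.BC (h : Wf w) (e f : ZMod 2) : w (tq e (cls (pB (some 1)))) (tq f (cls (pC (some 1)))) = -w s0 y3 ∧
    w (tq f (cls (pC (some 1)))) (tq e (cls (pB (some 1)))) = -w s0 y3 := by
  have k : lm (tq e (cls (pB (some 1)))) (tq f (cls (pC (some 1)))) = 0 :=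
    (lm_tq_iff e f (nmB n10) (nmC n10)).2.2.2 (.inl (by rw [pC, ip_v44, pB, v44_apply, v44_apply]; decide))
  exact ⟨h.zero (mB n10 (by decide) e) (mC n10 (by decide) f) k,
    h.zero (mC n10 (by decide) f) (mB n10 (by decide) e) ((lm_symm _ _).trans k)⟩

theorem Wf.B2 (h : Wf w) (e : ZMod 2) : w s0 (tq e (cls (pB (some 2)))) = w s0 y3 ∧
    w s0 (tq e (cls (pC (some 2)))) = w s0 y3 := by
  have k : cls v1 + cls v2 = clB none (some 1) := by rw [← cls_sub, cls_v3]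
  refine ⟨h.eight s0_mem (mB n20 (by decide) e) ?_ ?_, h.eight s0_mem (mC n20 (by decide) e) ?_ ?_⟩ <;>
    rw [s0_v2]
  · exact (lm_tq_iff 0 e nm_v2 (nmB n20)).1.2 (.inl (by rw [ip_comm, ip_v2, pB, v44_apply, v44_apply]; decide))
  · exact ne_mul (by rw [k, pB, ← clB_eq_cls, Ne, clB_eq_iff n20 (by decide)]; decide)
  · exact (lm_tq_iff 0 e nm_v2 (nmC n20)).1.2 (.inr (by rw [ip_comm, ip_v2, pC, v44_apply, v44_apply]; decide))
  · exact ne_mul (by rw [k, pC, ← clC_eq_cls]; exact (clB_ne_clC _ _ _ _).symm)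

theorem Wf.T1 (h : Wf w) (e : ZMod 2) :
    (w t1 (tq e (cls (pB (some 1)))) = w s0 y3 ∧ w (tq e (cls (pB (some 1)))) t1 = w s0 y3) ∧
      w t1 (tq e (cls (pC (some 1)))) = 0 ∧ w (tq e (cls (pC (some 1)))) t1 = 0 := by
  have k1 : lm t1 (tq e (cls (pB (some 1)))) = 1 / 8 := (lm_tq_iff 0 e (nm_lam _) (nmB n10)).1.2
    (.inl (by rw [pB, ip_v44, lam_apply, lam_apply]; decide))
  have k2 : lm t1 (tq e (cls (pC (some 1)))) = 1 / 32 := (lm_tq_iff 0 e (nm_lam _) (nmC n10)).2.1.2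
    (.inr (by rw [pC, ip_v44, lam_apply, lam_apply]; decide))
  have n : cls (pB (some 1)) ≠ cls v1 + cls (lam (some 0)) := fun o => by
    have := congrArg (pol (om, 0)) o
    rw [pol_add_right, pol_om, pol_om, pol_om, pB, v1, ← clB_eq_cls, ← clB_eq_cls, clB_par, clB_par, cls_lam,
      sy_dot_om, sum_e1] at this
    exact absurd this (by decide)
  exact ⟨⟨h.eight t1_mem (mB n10 (by decide) e) k1 (ne_mul n),
    h.eight (mB n10 (by decide) e) t1_mem ((lm_symm _ _).trans k1) (ne_mul fun o => n (by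
      rw [o, ← add_assoc, ll_add_self, zero_add]))⟩,
    h.four t1_mem (mC n10 (by decide) e) k2, h.four (mC n10 (by decide) e) t1_mem ((lm_symm _ _).trans k2)⟩

open Classical in
/-- The normalised spherical function. -/
noncomputable def NN (F : Type*) [Field F] (t : K) : F :=
  if lm s0 t = 1 then 7 else if lm (t0 * s0) t = 1 then -7 else if lm s0 t = 1 / 8 then 1
  else if lm s0 t = 0 then -1
  else if lm s0 t = 13 / 256 then (if lm t1 (tau * t1 * tau⁻¹) = 13 / 256 then 1 else -1) / 4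
  else if lm s0 t = 5 / 256 then -((if lm t1 (tau * t1 * tau⁻¹) = 13 / 256 then 1 else -1) / 4) else 0

theorem Wf.eq (h : Wf w) (h1 : w s0 s0 = 7 * w s0 y3) (h2 : 4 * w t1 (tau * t1 * tau⁻¹) = w s0 y3)
    (ht : t ∈ O1 t0) : w s0 t = NN F t * w s0 y3 := by
  classical
  have h4 : (4 : F) ≠ 0 := by rw [show (4 : F) = 2 * 2 by norm_num]; exact mul_ne_zero h.two h.two
  have k : ∀ y ∈ O1 t0, lm s0 y = 13 / 256 →
      w s0 y = (if lm t1 (tau * t1 * tau⁻¹) = 13 / 256 then 1 else -1) / 4 * w s0 y3 := fun y hy e => by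
    rw [← h2]
    split_ifs with o
    · rw [h.three t1_mem t2_mem o hy e]; field_simp
    · rw [h.three t1_mem (O1_mul t0_mem t2_mem) (lm_six t1_mem t2_mem (lm_t12.resolve_left o)) hy e,
        h.neg _ t1_mem _ t2_mem]
      field_simp
  rw [NN]
  generalize (if lm t1 (tau * t1 * tau⁻¹) = 13 / 256 then 1 else -1 : F) / 4 = ε at k ⊢
  rcases O1_table t0_mem s0_mem ht with f | f | f | f | f | f | f | f
  · rw [if_pos f.1, ← eq_of_lm s0_mem.1 ht.1 f.1, h1]
  · rw [if_neg (by norm_num [f.1]), if_pos f.2, ← eq_of_lm (O1_mul_DD t0_mem s0_mem) ht.1 f.2,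
      h.neg _ s0_mem _ s0_mem, h1, neg_mul]
  · rw [h.zero s0_mem ht f.1]; norm_num [f.1, f.2]
  · rw [h.eight s0_mem ht f.1 fun o => by
      have := f.2
      rw [o, lm_self (O1_mul_DD t0_mem s0_mem)] at this
      norm_num at this]
    norm_num [f.1, f.2]
  · rw [h.c2 s0_mem ht f.2.2]; norm_num [f.1, f.2.1]
  · have := k _ (O1_mul t0_mem ht) (lm_six s0_mem ht f.1)
    rw [h.neg _ s0_mem _ ht, neg_eq_iff_eq_neg] at this
    rw [this, if_neg (by norm_num [f.1]), if_neg (by norm_num [f.2]), if_neg (by norm_num [f.1]),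
      if_neg (by norm_num [f.1]), if_neg (by norm_num [f.1]), if_pos f.1, neg_mul]
  · rw [k _ ht f.1, if_neg (by norm_num [f.1]), if_neg (by norm_num [f.2]), if_neg (by norm_num [f.1]),
      if_neg (by norm_num [f.1]), if_pos f.1]
  · rw [h.four s0_mem ht f.1]; norm_num [f.1, f.2]

end SphB

open SphB

theorem sph (F : Type*) [Field F] : ∃ N : K → F, ∀ {U : Type v} [AddCommGroup U] [Module F U] {r : K → End F U}
    {r' : K → End F (Dual F U)} {v : K → U} {f : K → Dual F U}, Rp r → (∀ g ∈ HH, ∀ φ u, r' g φ (r g u) = φ u) →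
    AS r v → AS r' f → ∃ b : F, ∀ t ∈ O1 t0, f s0 (v t) = N t * b := by
  refine ⟨SphB.NN F, fun {U _ _ r r' v f} hr hd hv hf => ⟨f s0 (v y3), fun t ht => ?_⟩⟩
  have h : Wf fun s t => f s (v t) := ⟨hr.two, fun g hg s hs t ht => by
    rw [← hf.eqv g (mem_cent.2 hg) s hs, ← hv.eqv g (mem_cent.2 hg) t ht, hd g (mem_cent.2 hg)],
    fun s _ t ht => by rw [hv.neg t ht, map_neg]⟩
  have bb := fun {e f} => h.BB (e := e) (f := f) (nmB n10) (mB n10 (by decide))
  have cc := fun {e f} => h.BB (e := e) (f := f) (nmC n10) (mC n10 (by decide))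
  have bc := h.BC
  have b1 := fun e => h.one (mB n10 (by decide) e)
  have c1 := fun e => h.one (mC n10 (by decide) e)
  have tt := h.T1
  have b2 := h.B2
  have h1 : f s0 (v s0) = 7 * f s0 (v y3) := by
    have := congrArg (f s0) hv.rel
    rw [AA_eq, AA_eq] at this
    simp only [map_add, (b2 _).1, (b2 _).2] at this
    have e : f s0 = f (tq 0 (cls (pB (some 1)))) := by rw [s0_v2]; rfl
    rw [e, b1, bb (by decide), (bc _ _).1, (bc _ _).1, ← e] at this
    linear_combination this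
  refine h.eq h1 ?_ ht
  obtain ⟨κ, k1, k2⟩ := hv.dec
  have a1 := k1 (AA f (some 1)) fun g d a b u => by
    conv_lhs => rw [← hf.inv g d a b, hd g b.mem]
  have fx : ∀ g, g * t0 = t0 * g → g * t1 = t1 * g → ∀ u, f t1 (r g u) = f t1 u := fun g a b u => by
    conv_lhs => rw [← conj_eq_of_comm b, ← hf.eqv g (mem_cent.2 a) t1 t1_mem, hd g (mem_cent.2 a)]
  have a2 := k2 (f t1) (fx zz zz_comm_t0 (by rw [t1, zz_mul_tq, tq_mul_zz])) fun d a => fx _
    (by rw [t0_v1, tq_comm_iff, v1, ← clB_eq_cls, pol_clB, a.1, a.2, add_zero])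
    (by rw [t1, tq_comm_iff, cls_lam, pol, sy_dot, e1_dot, a.2, zero_dotProduct, add_zero])
  rw [hv.eqv tau (mem_cent.2 tau_t0) t1 t1_mem] at a2
  rw [AA_eq, AA_eq] at a1
  rw [AA_eq] at a2
  simp only [map_add, LinearMap.add_apply, (tt _).1.1, (tt _).1.2, (tt _).2.1, (tt _).2.2, b1, c1, (bc _ _).1,
    (bc _ _).2, bb zero_ne_one, bb one_ne_zero, cc zero_ne_one, cc one_ne_zero, h1] at a1 a2
  refine mul_left_cancel₀ hr.two ?_
  linear_combination 8 * a2 - a1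

end Cfsg.Agent.Gr.R4
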