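import Mathlib
import Cfsg.Agent.Gr.R4.Main
import Cfsg.Agent.Gr.R4.Sph

/-! Existence, irreducibility and uniqueness of the representation of degree 4371 of `Bm`. -/

set_option autoImplicit false

namespace Cfsg.Agent.Gr.R4

open Module Matrix Subgroup Cfsg.Agent.Spor

universe v

variable {F : Type*} [Field F]

theorem finrank_rows_le {X U : Type*} [Finite X] [AddCommGroup U] [Module ℝ U]
    [FiniteDimensional ℝ U] (β : LinearMap.BilinForm ℝ U) (w : X → U) (Γ : X → X → ℤ)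
    (h1 : ∀ x y, (Γ x y : ℝ) = β (w x) (w y)) (hs : ∀ x y, Γ x y = Γ y x) :
    finrank F (Submodule.span F (Set.range fun x y => (Γ x y : F))) ≤ finrank ℝ U := by
  classical
  obtain ⟨κ, a, ha, hsp, hli⟩ := exists_linearIndependent' F fun x y => (Γ x y : F)
  have : Finite κ := Finite.of_injective a ha
  have := Fintype.ofFinite κ
  rw [← hsp, finrank_span_eq_card hli]
  let A : Matrix κ κ ℤ := of fun i j => Γ (a i) (a j)
  have h2 : (A.map (Int.castRingHom F)).det ≠ 0 := fun e => by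
    obtain ⟨c, hc, e⟩ := exists_vecMul_eq_zero_iff.2 e
    refine hc (funext (Fintype.linearIndependent_iff.1 hli c (funext fun y => ?_)))
    obtain ⟨d, hd⟩ := (Submodule.mem_span_range_iff_exists_fun _).1
      (hsp.ge (Submodule.subset_span ⟨y, rfl⟩))
    have h3 : ∀ i, (Γ (a i) y : F) = ∑ j, d j * Γ (a i) (a j) := fun i => by
      have := congrFun hd (a i)
      simp only [Finset.sum_apply, Pi.smul_apply, Function.comp, smul_eq_mul] at this
      rw [hs, ← this]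
      exact Finset.sum_congr rfl fun j _ => by rw [hs]
    have h4 : ∀ j, ∑ i, c i * (Γ (a i) (a j) : F) = 0 := fun j => congrFun e j
    simp only [Finset.sum_apply, Pi.smul_apply, Function.comp, smul_eq_mul, h3, Finset.mul_sum,
      Pi.zero_apply, mul_left_comm (c _)]
    rw [Finset.sum_comm]
    simp only [← Finset.mul_sum, h4, mul_zero, Finset.sum_const_zero]
  have h3 : (A.map (Int.castRingHom ℝ)).det ≠ 0 := fun e => h2 (by
    rw [← RingHom.mapMatrix_apply, ← RingHom.map_det] at e ⊢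
    rw [(RingHom.injective_int _).eq_iff' (map_zero _)] at e
    rw [e, map_zero])
  have h4 : LinearIndependent ℝ (w ∘ a) := Fintype.linearIndependent_iff.2 fun c hc => by
    by_contra hne
    refine h3 (exists_vecMul_eq_zero_iff.1 ⟨c, fun e => hne fun i => congrFun e i, funext fun j => ?_⟩)
    have := congrArg (fun u => β u (w (a j))) hc
    simpa [← h1, vecMul, dotProduct, A] using this
  exact h4.fintype_card_le_finrank

theorem zz_HH : zz ∈ HH := mem_centralizer_singleton.2 zz_comm_t0.symm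

/-- The image of `zz` in `Bm`. -/
noncomputable def zB : Bm := toBm ⟨zz, zz_HH⟩

theorem zB_ne : zB ≠ 1 := fun e =>
  ((toBm_eq_one _).1 e).elim zz_ne_one fun q => zz_not_mem_DD ((show zz = t0 from q) ▸ t0_mem)

theorem zB_sq : zB * zB = 1 := by
  rw [zB, ← map_mul, toBm_eq_one]
  exact Or.inl zz_mul_self

theorem ker_bot {M : Type*} [Monoid M] (ρ : Bm →* M) {g : Bm} (h : ρ g ≠ 1) : ρ.ker = ⊥ :=
  (simple_Bm.eq_bot_or_eq_top_of_normal _ inferInstance).resolve_right fun e =>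
    h (e.ge (mem_top g))

section One

variable {U : Type*} [AddCommGroup U] [Module F U]

open Classical in
/-- A representation of `Bm` as a function on `K`. -/
noncomputable def lft (ρ : Bm →* End F U) (g : K) : End F U :=
  if h : g ∈ HH then ρ (toBm ⟨g, h⟩) else 1

theorem lft_of (ρ : Bm →* End F U) {g : K} (h : g ∈ HH) : lft ρ g = ρ (toBm ⟨g, h⟩) := dif_pos h

theorem rp_lft (h2 : (2 : F) ≠ 0) (ρ : Bm →* End F U) (hz : ρ zB ≠ 1) : Rp (lft ρ) := by
  have h0 : t0 ∈ HH := mem_centralizer_singleton.2 rfl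
  refine ⟨h2, fun g hg h hh => ?_, ?_, ?_, by rwa [lft_of ρ zz_HH]⟩
  · rw [lft_of ρ hg, lft_of ρ hh, lft_of ρ (HH.mul_mem hg hh), ← map_mul, ← map_mul]
    rfl
  · rw [lft_of ρ HH.one_mem, (toBm_eq_one _).2 (Or.inl rfl), map_one]
  · rw [lft_of ρ h0, (toBm_eq_one _).2 (Or.inr rfl), map_one]

variable [FiniteDimensional F U]

theorem triv_of_lt (h2 : (2 : F) ≠ 0) (ρ : Bm →* End F U) (hd : finrank F U < 4371) : ρ zB = 1 := by
  by_contra h
  exact absurd (min_deg (rp_lft h2 ρ h)) (by omega)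

theorem irred (h2 : (2 : F) ≠ 0) (ρ : Bm →* End F U) (hz : ρ zB ≠ 1) (hd : finrank F U ≤ 4371)
    (W : Submodule F U) (hW : ∀ g, ∀ u ∈ W, ρ g u ∈ W) : W = ⊥ ∨ W = ⊤ := by
  by_contra h
  rw [not_or] at h
  have a1 := Submodule.finrank_lt h.2
  have a2 := one_le_finrank h.1
  have a3 := W.finrank_quotient_add_finrank
  have e1 := triv_of_lt h2 (Representation.subrepresentation ρ W hW) (by omega)
  have e2 := triv_of_lt h2 (Representation.quotient ρ W hW) (by omega)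
  refine hz (LinearMap.ext fun u => ?_)
  have m : ρ zB u - u ∈ W :=
    (Submodule.Quotient.eq W).1 (LinearMap.congr_fun e2 (Submodule.Quotient.mk u))
  have k : ρ zB (ρ zB u - u) = ρ zB u - u := congrArg Subtype.val (LinearMap.congr_fun e1 ⟨_, m⟩)
  rw [map_sub, ← ap_mul, zB_sq, map_one] at k
  exact sub_eq_zero.1 (eq_zero_of_neg h2 (by rw [neg_sub]; exact k.symm))

omit [FiniteDimensional F U] in
theorem dual_ne (ρ : Bm →* End F U) (hz : ρ zB ≠ 1) : Representation.dual ρ zB ≠ 1 := fun e => by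
  refine hz (LinearMap.ext fun u => ?_)
  refine sub_eq_zero.1 ((Module.forall_dual_apply_eq_zero_iff F _).1 fun φ => ?_)
  have : φ (ρ zB⁻¹ (ρ zB u)) = φ (ρ zB u) := LinearMap.congr_fun (LinearMap.congr_fun e φ) _
  rw [ap_inv] at this
  rw [map_sub, ← this]
  exact sub_self _

end One

theorem coeff (h2 : (2 : F) ≠ 0) : ∃ N : K → F, ∀ {U : Type v} [AddCommGroup U] [Module F U]
    [FiniteDimensional F U] (ρ : Bm →* End F U), ρ zB ≠ 1 → finrank F U ≤ 4371 →
    ∃ (u : U) (f : U →ₗ[F] F) (b : F), u ≠ 0 ∧ f ≠ 0 ∧ b ≠ 0 ∧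
      ∀ g : HH, f (ρ (toBm g) u) = N (g * s0 * (g : K)⁻¹) * b := by
  obtain ⟨N, hN⟩ := sph.{v} F
  refine ⟨N, fun {U} _ _ _ ρ hz hd => ?_⟩
  have r1 := rp_lft h2 ρ hz
  have r2 := rp_lft h2 (Representation.dual ρ) (dual_ne ρ hz)
  obtain ⟨w, hw⟩ := ex_AS r1 hd
  obtain ⟨f, hf⟩ := ex_AS r2 (by rwa [Subspace.dual_finrank_eq])
  obtain ⟨b, hb⟩ := hN r1 (fun g hg φ u => by
    rw [lft_of _ hg, lft_of _ hg]
    exact congrArg φ (ap_inv ρ _ u)) hw hf
  have eqv : ∀ g : HH, ∀ t ∈ O1 t0, ρ (toBm g) (w t) = w (g * t * (g : K)⁻¹) := fun g t ht => by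
    rw [← hw.eqv g g.2 t ht, lft_of ρ g.2]
  have cj : ∀ g : HH, ∀ t ∈ O1 t0, (g : K) * t * (g : K)⁻¹ ∈ O1 t0 := fun g t ht =>
    O1_conj t0_mem ht (mem_centralizer_singleton.1 g.2).symm
  refine ⟨w s0, f s0, b, hw.ne, hf.ne, fun e => hf.ne ?_, fun g => by
    rw [eqv g _ s0_mem, hb _ (cj g _ s0_mem)]⟩
  have hsp : Submodule.span F (w '' O1 t0) = ⊤ := by
    refine (irred h2 ρ hz hd _ fun g u hu => ?_).resolve_left fun q =>
      hw.ne (q.le (Submodule.subset_span ⟨s0, s0_mem, rfl⟩))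
    obtain ⟨g, rfl⟩ := toBm_surjective g
    refine Submodule.mem_comap.1 ((Submodule.span_le (p := Submodule.comap (ρ (toBm g)) _)).2 ?_ hu)
    rintro _ ⟨t, ht, rfl⟩
    exact Submodule.subset_span ⟨_, cj g t ht, (eqv g t ht).symm⟩
  refine LinearMap.ker_eq_top.1 (eq_top_iff.2 (hsp.ge.trans (Submodule.span_le.2 ?_)))
  rintro _ ⟨t, ht, rfl⟩
  change f s0 (w t) = 0
  rw [hb t ht, e, mul_zero]

theorem uniq (h2 : (2 : F) ≠ 0) {U : Type v} [AddCommGroup U] [Module F U] [FiniteDimensional F U]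
    (ρ ρ' : Bm →* End F U) (hz : ρ zB ≠ 1) (hz' : ρ' zB ≠ 1) (hd : finrank F U ≤ 4371) :
    ∃ P : U ≃ₗ[F] U, ∀ g u, P (ρ g u) = ρ' g (P u) := by
  obtain ⟨N, hN⟩ := coeff.{v} h2
  obtain ⟨u, f, b, a1, a2, a3, a4⟩ := hN ρ hz hd
  obtain ⟨u', f', b', b1, b2, b3, b4⟩ := hN ρ' hz' hd
  refine equiv_of_coeff ρ ρ' (irred h2 ρ hz hd) (irred h2 ρ' hz' hd) (f := b' • f) (f' := b • f')
    a1 b1 (smul_ne_zero b3 a2) (smul_ne_zero a3 b2) fun g => ?_
  obtain ⟨g, rfl⟩ := toBm_surjective g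
  simp only [LinearMap.smul_apply, a4, b4, smul_eq_mul]
  ring

theorem exists_rep (h2 : (2 : F) ≠ 0) : ∃ ρ : Bm →* GL (Fin 4371) F, Function.Injective ρ := by
  let : MulAction HH (O1 t0) :=
    { smul := fun g s => ⟨g * s * (g : K)⁻¹,
        O1_conj t0_mem s.2 (mem_centralizer_singleton.1 g.2).symm⟩
      one_smul := fun s => Subtype.ext (by change 1 * _ * 1⁻¹ = _; group)
      mul_smul := fun g h s => Subtype.ext (by
        change (g : K) * h * _ * ((g : K) * h)⁻¹ = g * (h * _ * (h : K)⁻¹) * (g : K)⁻¹; group) }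
  have hsm : ∀ (g : HH) (s : O1 t0), ((g • s : O1 t0) : K) = g * s * (g : K)⁻¹ := fun _ _ => rfl
  choose Γ hΓ using fun s t : O1 t0 => O1_lm t0_mem s.2 t.2
  let U := Module.End.eigenspace (mM (axis t0)) (1 / 4)
  let w : O1 t0 → U := fun s => ⟨axis s - axis (t0 * s), Module.End.mem_eigenspace_iff.2 (by
    rw [map_sub, mM_axis t0_mem s.2, mM_axis t0_mem (O1_mul t0_mem s.2), ← mul_assoc,
      DD_mul_self t0_mem, one_mul]
    module)⟩
  have h1 : ∀ s t, (Γ s t : ℝ) = ((16 : ℝ) • bM.restrict U) (w s) (w t) := fun s t => by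
    obtain ⟨a, b⟩ := lm_mul_mul t0_mem s.2 t.2
    have := hΓ s t
    simp only [LinearMap.smul_apply, LinearMap.BilinForm.restrict_apply, LinearMap.domRestrict_apply,
      w, map_sub, LinearMap.sub_apply, smul_eq_mul, lm] at a b this ⊢
    linarith
  have hi : ∀ (g : HH) s t, Γ (g • s) (g • t) = Γ s t := fun g s t => by
    have e := hΓ (g • s) (g • t)
    rw [hsm, hsm, show t0 * (g * s * (g : K)⁻¹) = g * (t0 * s) * (g : K)⁻¹ by
      rw [← mul_assoc, ← mul_assoc, mem_centralizer_singleton.1 g.2, mul_assoc g.1],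
      lm_conj _ s.2.1 t.2.1, lm_conj _ (O1_mul t0_mem s.2).1 t.2.1, hΓ] at e
    exact_mod_cast (show (Γ (g • s) (g • t) : ℝ) = Γ s t by linarith)
  have hle := finrank_rows_le (F := F) _ w Γ h1 fun s t => by
    have : (Γ s t : ℝ) = Γ t s := by
      simp only [h1, LinearMap.smul_apply, LinearMap.BilinForm.restrict_apply,
        LinearMap.domRestrict_apply, bM_symm (w s : V)]
    exact_mod_cast this
  rw [finrank_V4 t0_mem] at hle
  set M := Submodule.span F (Set.range fun x y => (Γ x y : F)) with hM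
  let σ : Representation F HH (O1 t0 → F) :=
    { toFun := fun g => LinearMap.funLeft _ _ (g⁻¹ • ·)
      map_one' := by ext; simp
      map_mul' := fun g h => by ext; simp [mul_smul] }
  have hσ : ∀ (g : HH) x, σ g (fun y => (Γ x y : F)) = fun y => (Γ (g • x) y : F) :=
    fun g x => funext fun y => by
      change ((Γ x (g⁻¹ • y) : ℤ) : F) = _
      rw [← hi g, smul_inv_smul]
  let τ := σ.subrepresentation M fun g => Submodule.span_le.2 (by
    rintro _ ⟨x, rfl⟩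
    exact Submodule.subset_span ⟨g • x, (hσ g x).symm⟩)
  let ρ : Bm →* End F M := QuotientGroup.lift _ τ fun x hx => LinearMap.ext fun m => Subtype.ext (by
    have : ∀ s : O1 t0, x⁻¹ • s = s := fun s => by
      rw [inv_smul_eq_iff]
      refine Subtype.ext ?_
      rcases (toBm_eq_one x).1 ((QuotientGroup.eq_one_iff x).2 hx) with e | e <;> rw [hsm, e]
      · group
      · rw [O1_comm t0_mem s.2, mul_inv_cancel_right]
    exact funext fun s => congrArg m.1 (this s))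
  have hne : ∃ g, ρ g ≠ 1 := by
    obtain ⟨s, hs, t, ht, e1⟩ := exists_3A
    have hs' := O1_mul t0_mem hs
    obtain ⟨g, h3, h4⟩ := O1_trans t0_mem hs hs'
    refine ⟨toBm ⟨g, mem_centralizer_singleton.2 h3.symm⟩, fun e => ?_⟩
    have h5 := congrArg (fun f : End F M =>
      (f ⟨_, Submodule.subset_span ⟨⟨s, hs⟩, rfl⟩⟩).1 ⟨t, ht⟩) e
    have h6 := (congrFun (hσ ⟨g, mem_centralizer_singleton.2 h3.symm⟩ ⟨s, hs⟩) ⟨t, ht⟩).symm.trans h5
    have h7 : Γ ⟨s, hs⟩ ⟨t, ht⟩ = 1 := by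
      have := hΓ ⟨s, hs⟩ ⟨t, ht⟩
      exact_mod_cast (show (Γ ⟨s, hs⟩ ⟨t, ht⟩ : ℝ) = 1 by linarith)
    have h8 : Γ ⟨_, hs'⟩ ⟨t, ht⟩ = -1 := by
      have := hΓ ⟨_, hs'⟩ ⟨t, ht⟩
      rw [← mul_assoc, DD_mul_self t0_mem, one_mul] at this
      exact_mod_cast (show (Γ ⟨_, hs'⟩ ⟨t, ht⟩ : ℝ) = -1 by linarith)
    rw [show _ • (⟨s, hs⟩ : O1 t0) = ⟨_, hs'⟩ from Subtype.ext h4, h8] at h6
    change _ = ((Γ ⟨s, hs⟩ ⟨t, ht⟩ : ℤ) : F) at h6
    rw [h7] at h6
    exact one_ne_neg h2 (by simpa using h6.symm)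
  obtain ⟨g, hg⟩ := hne
  have hk := ker_bot ρ hg
  have hz : ρ zB ≠ 1 := fun e => zB_ne (mem_bot.1 (hk.le e))
  have : Finite (O1 t0) := Subtype.finite
  let b := finBasisOfFinrankEq F M (le_antisymm hle (min_deg (rp_lft h2 ρ hz)))
  refine ⟨((LinearMap.toMatrixAlgEquiv b).toMonoidHom.comp ρ).toHomUnits, ?_⟩
  rw [← MonoidHom.ker_eq_bot_iff]
  refine ker_bot _ (g := g) fun e => hg ?_
  rw [← Units.val_eq_one] at e
  exact (map_eq_one_iff _ (LinearMap.toMatrixAlgEquiv b).injective).1 e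

end Cfsg.Agent.Gr.R4
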